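import Groth.Agent.SmAcyc.Limit.System
import Groth.Agent.EtBC.Crit
import Groth.Agent.EtFound.StalkSet
import Groth.Agent.EtLimit.Const
import Groth.Agent.UnitStalk.Fibre
import Groth.Agent.AcycBase.Lift

/-!
# Base change along a limit of schemes over the base
-/

set_option autoImplicit false
set_option linter.style.haveILetI false
set_option linter.unusedSectionVars false
set_option backward.isDefEq.respectTransparency.types false

universe u

open CategoryTheory CategoryTheory.Limits AlgebraicGeometry Opposite IsLocalRing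

namespace Groth.Agent.SmAcyc.Limit

open Groth.Agent.EtLimit Groth.Agent.EtFound Groth.Agent.EtBC

/-- the base change isomorphism on a strict localization -/
theorem bijective_of_isIso_bcQ {X S X' S' : Scheme.{u}} {f : X ⟶ S} {g : S' ⟶ S} [QuasiCompact f]
    [QuasiSeparated f] {f' : X' ⟶ S'} {g' : X' ⟶ X} (sq : IsPullback g' f' f g)
    [PreservesFiniteLimits (EtCoh.pull g')] (F : EtCoh.Ab X) (q : ℕ) [IsIso (EtBC.bcQ f g f' g' sq.w q F)]
    {x : S'} {y : S} (hy : g x = y) (A : SLoc S y) (B : SLoc S' x) (ψ : A.R →+* B.R) [IsLocalHom ψ]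
    (hψ : Spec.map (CommRingCat.ofHom ψ) ≫ A.spec = B.spec ≫ g)
    (PS PX : Scheme.{u}) (aS : PS ⟶ X) (bS : PS ⟶ Spec (CommRingCat.of A.R)) (hS : IsPullback aS bS f A.spec)
    (aX : PX ⟶ X) (bX : PX ⟶ Spec (CommRingCat.of B.R)) (hX : IsPullback aX bX f (B.spec ≫ g))
    (m : PX ⟶ PS) (w : m ≫ aS = aX) (hm : m ≫ bS = bX ≫ Spec.map (CommRingCat.ofHom ψ))
    [PreservesFiniteLimits (EtCoh.pull m)] :
    Function.Bijective (hVia m aS aX w F q) := by
  subst hy
  haveI := B.str.henselian
  haveI := B.str.isSepClosure.sep_closed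
  let Ω := AlgebraicClosure (ResidueField B.R)
  have h1 := (isIso_stalk_iff_HpullVia sq x A.R B.R ψ (AcycBase.comp_eq_of_specOf g x ψ hψ)
    (algebraMap (ResidueField B.R) Ω) PS PX aS bS hS aX bX hX m w hm F q).1 inferInstance
  rwa [show (hVia m aS aX w F q : _ → _) = fun ξ => EtCore.HpullVia m aS aX w F q ξ from
    funext fun ξ => (HpullVia_eq m aS aX w F q ξ).symm]

variable {ι : Type u} [Preorder ι] [IsDirected ι (· ≤ ·)] [Nonempty ι] {S X : Scheme.{u}} {Xs : ιᵒᵖ ⥤ Scheme.{u}}
  (haff : ∀ ⦃a b : ιᵒᵖ⦄ (h : a ⟶ b), IsAffineHom (Xs.map h)) (c : Cone Xs) (hc : IsLimit c)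
  (b : ∀ i : ι, Xs.obj (op i) ⟶ S) (hb : ∀ {i j : ι} (h : i ≤ j), trX h ≫ b i = b j)
  (f : X ⟶ S) [QuasiCompact f] [QuasiSeparated f] (F : EtCoh.Ab X) (q : ℕ)
  [∀ i, PreservesFiniteLimits (EtCoh.pull (pullback.fst f (b i)))]
  (hstage : ∀ i, IsIso (EtBC.bcQ f (b i) (pullback.snd f (b i)) (pullback.fst f (b i)) pullback.condition q F))
  (g : c.pt ⟶ S) (hg : ∀ i, c.π.app (op i) ≫ b i = g)

include hg in
/-- a map of strict localizations through a stage -/
theorem existsUnique_stage {x : c.pt} (A : SLoc c.pt x) (AS : SLoc S (g x)) (ψ : AS.R →+* A.R) [IsLocalHom ψ]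
    (hψ : Spec.map (CommRingCat.ofHom ψ) ≫ AS.spec = A.spec ≫ g) (i : ι) :
    ∃! ψi : AS.R →+* (sl c x i).R, IsLocalHom ψi ∧
      Spec.map (CommRingCat.ofHom ψi) ≫ AS.spec = (sl c x i).spec ≫ b i ∧ (gi c A i).comp ψi = ψ := by
  haveI := A.str.henselian
  refine existsUnique_lift (b i) ?_ AS (sl c x i) (gi c A i) ψ ?_
  · exact (Scheme.Hom.comp_apply _ _ _).symm.trans (congrArg (fun k : c.pt ⟶ S => k x) (hg i))
  · exact hψ.trans (((congrArg (A.spec ≫ ·) (hg i).symm).trans (Category.assoc _ _ _).symm).trans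
      ((congrArg (· ≫ b i) (gi_spec c A i).symm).trans (Category.assoc _ _ _)))

include haff hc hb hg in
set_option maxHeartbeats 2000000 in
/-- bijectivity at the strict localizations of the stages passes to the limit -/
theorem bijective_colim {x : c.pt} (A : SLoc c.pt x) (AS : SLoc S (g x)) (ψ : AS.R →+* A.R) [IsLocalHom ψ]
    (hψ : Spec.map (CommRingCat.ofHom ψ) ≫ AS.spec = A.spec ≫ g)
    {PS Z : Scheme.{u}} (bS : PS ⟶ Spec (CommRingCat.of AS.R)) [QuasiCompact bS] [QuasiSeparated bS]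
    (aS : PS ⟶ Z) (F : EtCoh.Ab Z)
    (hst : ∀ (i : ι) (φ : AS.R →+* (sl c x i).R), IsLocalHom φ →
      Spec.map (CommRingCat.ofHom φ) ≫ AS.spec = (sl c x i).spec ≫ b i →
      ∀ [PreservesFiniteLimits (EtCoh.pull (pullback.snd (Spec.map (CommRingCat.ofHom φ)) bS))],
        Function.Bijective (hVia (pullback.snd (Spec.map (CommRingCat.ofHom φ)) bS) aS
          (pullback.snd (Spec.map (CommRingCat.ofHom φ)) bS ≫ aS) rfl F q))
    [PreservesFiniteLimits (EtCoh.pull (pullback.fst bS (Spec.map (CommRingCat.ofHom ψ))))] :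
    Function.Bijective (hVia (pullback.fst bS (Spec.map (CommRingCat.ofHom ψ))) aS
      (pullback.fst bS (Spec.map (CommRingCat.ofHom ψ)) ≫ aS) rfl F q) := by
  classical
  haveI hall : ∀ {A B : Scheme.{u}} (f : A ⟶ B), PreservesFiniteLimits (EtCoh.pull f) :=
    fun f => pull_preservesFiniteLimits f
  haveI : IsFiltered ι := isFiltered_of_directed_le_nonempty ι
  haveI : IsConnected ι := IsFiltered.isConnected _
  choose ψs hψs huψ using existsUnique_stage c b g hg A AS ψ hψ
  have hcomp : ∀ {i j : ι} (h : i ≤ j), (tm c A h).comp (ψs i) = ψs j := fun {i j} h => by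
    haveI := (hψs i).1
    haveI : IsLocalHom ((tm c A h).comp (ψs i)) := RingHom.isLocalHom_comp _ _
    refine huψ j _ ⟨inferInstance, ?_, ?_⟩
    · rw [CommRingCat.ofHom_comp, Spec.map_comp, Category.assoc, (hψs i).2.1, ← Category.assoc,
        (tm_prop c A h).2.1, Category.assoc, hb h]
    · rw [← RingHom.comp_assoc, (tm_prop c A h).2.2, (hψs i).2.2]
  let Sp := Spec (CommRingCat.of AS.R)
  let st : ∀ i, Spec (CommRingCat.of (sl c x i).R) ⟶ Sp := fun i => Spec.map (CommRingCat.ofHom (ψs i))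
  have hstS : ∀ {i j : ι} (h : i ≤ j), Spec.map (CommRingCat.ofHom (tm c A h)) ≫ st i = st j := fun {i j} h => by
    rw [← Spec.map_comp, ← CommRingCat.ofHom_comp, hcomp h]
  let Stages : ιᵒᵖ ⥤ CategoryTheory.Over Sp :=
    { obj := fun a => CategoryTheory.Over.mk (st a.unop)
      map := fun {a a'} m => CategoryTheory.Over.homMk (Spec.map ((Rs c A).map m.unop)) (hstS (leOfHom m.unop))
      map_id := fun a => by
        ext : 1
        show Spec.map ((Rs c A).map (𝟙 a.unop)) = _
        rw [CategoryTheory.Functor.map_id, Spec.map_id]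
        rfl
      map_comp := fun {a a' a''} m m' => by
        ext : 1
        show Spec.map ((Rs c A).map (m'.unop ≫ m.unop)) = _
        rw [Functor.map_comp, Spec.map_comp]
        rfl }
  let K : Cone Stages := Cone.mk (CategoryTheory.Over.mk (Spec.map (CommRingCat.ofHom ψ)))
    { app := fun a => CategoryTheory.Over.homMk (Spec.map ((coc c A).ι.app a.unop)) (by
        show Spec.map (CommRingCat.ofHom (gi c A a.unop)) ≫ Spec.map (CommRingCat.ofHom (ψs a.unop)) = _
        rw [← Spec.map_comp, ← CommRingCat.ofHom_comp, (hψs a.unop).2.2]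
        rfl)
      naturality := fun a a' m => by
        ext : 1
        show 𝟙 _ ≫ Spec.map ((coc c A).ι.app a'.unop) = Spec.map ((coc c A).ι.app a.unop) ≫ Spec.map ((Rs c A).map m.unop)
        rw [Category.id_comp, ← Spec.map_comp, (coc c A).w] }
  obtain ⟨hcol⟩ := nonempty_isColimit_coc c A hc haff
  have hlK : IsLimit K := by
    have hl : IsLimit (Scheme.Spec.mapCone (coc c A).op) := isLimitOfPreserves Scheme.Spec hcol.op
    exact isLimitOfReflects (CategoryTheory.Over.forget _) hl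
  haveI : PreservesLimitsOfSize.{u, u} (CategoryTheory.Over.pullback bS) :=
    (CategoryTheory.Over.mapPullbackAdj bS).rightAdjoint_preservesLimits
  let Ys := Stages ⋙ CategoryTheory.Over.pullback bS ⋙ CategoryTheory.Over.forget (PS)
  let cY : Cone Ys := (CategoryTheory.Over.pullback bS ⋙ CategoryTheory.Over.forget (PS)).mapCone K
  have hcY : IsLimit cY := isLimitOfPreserves (CategoryTheory.Over.pullback bS ⋙
    CategoryTheory.Over.forget (PS)) hlK
  let mi : ∀ i : ι, Ys.obj (op i) ⟶ PS := fun i => pullback.snd (st i) bS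
  let e : ∀ i : ι, Ys.obj (op i) ⟶ Z := fun i => mi i ≫ aS
  have hmi : ∀ {i j : ι} (h : i ≤ j), tr Ys h ≫ mi i = mi j := fun {i j} h => pullback.lift_snd _ _ _
  have he : ∀ {i j : ι} (h : i ≤ j), tr Ys h ≫ e i = e j := fun {i j} h => by
    show tr Ys h ≫ mi i ≫ aS = mi j ≫ aS
    rw [← Category.assoc, hmi h]
  let p : cY.pt ⟶ PS := pullback.snd (Spec.map (CommRingCat.ofHom ψ)) bS
  have hp : ∀ i, cY.π.app (op i) ≫ mi i = p := fun i => pullback.lift_snd _ _ _
  have he₀ : ∀ i, cY.π.app (op i) ≫ e i = p ≫ aS := fun i => by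
    show cY.π.app (op i) ≫ mi i ≫ aS = p ≫ aS
    rw [← Category.assoc, hp i]
  have affY : ∀ ⦃a a' : ιᵒᵖ⦄ (m : a ⟶ a'), IsAffineHom (Ys.map m) := fun a a' m => by
    refine MorphismProperty.of_isPullback (P := @IsAffineHom) (IsPullback.of_bot (h₃₁ := bS)
      (v₂₂ := (Stages.obj a').hom) (v₂₁ := pullback.snd (Stages.obj a').hom bS) ?_
      (pullback.lift_fst _ _ _).symm (IsPullback.of_hasPullback _ bS))
      (isAffineHom_of_isAffine (Spec.map ((Rs c A).map m.unop)))
    show IsPullback (pullback.fst (Stages.obj a).hom bS)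
      ((Ys.map m : pullback (Stages.obj a).hom bS ⟶ pullback (Stages.obj a').hom bS) ≫ pullback.snd _ bS)
      ((Stages.map m).left ≫ (Stages.obj a').hom) bS
    rw [CategoryTheory.Over.w (Stages.map m)]
    erw [pullback.lift_snd]
    exact IsPullback.of_hasPullback _ _
  have qY : ∀ a, CompactSpace ↥(Ys.obj a) := fun a => by
    haveI : QuasiCompact (pullback.fst (st a.unop) bS) := MorphismProperty.pullback_fst _ _ ‹QuasiCompact bS›
    exact (QuasiCompact.compactSpace_of_compactSpace (pullback.fst (st a.unop) bS) : CompactSpace ↥(pullback (st a.unop) bS))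
  have sY : ∀ a, QuasiSeparatedSpace ↥(Ys.obj a) := fun a => by
    haveI : QuasiSeparated (pullback.fst (st a.unop) bS) := MorphismProperty.pullback_fst _ _ ‹QuasiSeparated bS›
    exact (quasiSeparatedSpace_of_quasiSeparated (pullback.fst (st a.unop) bS) : QuasiSeparatedSpace ↥(pullback (st a.unop) bS))
  haveI : ∀ a, PreservesFiniteLimits (EtCoh.pull (cY.π.app a)) := fun a => pull_preservesFiniteLimits _
  haveI : ∀ ⦃a a' : ιᵒᵖ⦄ (m : a ⟶ a'), PreservesFiniteLimits (EtCoh.pull (Ys.map m)) :=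
    fun a a' m => pull_preservesFiniteLimits _
  have hbij : ∀ i, Function.Bijective (hVia (mi i) aS (e i) rfl F q) := fun i =>
    hst i (ψs i) (hψs i).1 (hψs i).2.1
  have H := genSys_comparison' Ys affY cY hcY qY sY e @he F (p ≫ aS) he₀ q
  have hP : Function.Bijective (hVia p aS (p ≫ aS) rfl F q) := by
    have hfac : ∀ i (y : EtCoh.H (PS) (pullObj aS F) q),
        hVia (cY.π.app (op i)) (e i) (p ≫ aS) (he₀ i) F q (hVia (mi i) aS (e i) rfl F q y) =
          hVia p aS (p ≫ aS) rfl F q y := fun i y =>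
      hVia_comp (cY.π.app (op i)) (mi i) aS p (e i) (p ≫ aS) (hp i) rfl (he₀ i) rfl F q y
    refine ⟨(injective_iff_map_eq_zero _).2 fun y hy => ?_, fun ξ => ?_⟩
    · obtain ⟨i⟩ := ‹Nonempty ι›
      rw [← hfac i] at hy
      obtain ⟨k, hk, hdie⟩ := H.2 i _ hy
      have h0 : hVia (tr Ys hk) (e i) (e k) (he hk) F q (hVia (mi i) aS (e i) rfl F q y) = 0 := by
        show hmap (appOf (θPull (tr Ys hk) (e i) (e k) (he hk)) F) q
          (EtCore.Hpull (tr Ys hk) _ q (hVia (mi i) aS (e i) rfl F q y)) = 0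
        exact (congrArg (hmap (appOf (θPull (tr Ys hk) (e i) (e k) (he hk)) F) q) hdie).trans (map_zero _)
      rw [hVia_comp (tr Ys hk) (mi i) aS (mi k) (e i) (e k) (hmi hk) rfl (he hk) rfl F q y] at h0
      exact (hbij k).1 (h0.trans (map_zero _).symm)
    · obtain ⟨j, z, rfl⟩ := H.1 ξ
      obtain ⟨y, rfl⟩ := (hbij j).2 z
      exact ⟨y, (hfac j y).symm⟩
  let ε := pullbackSymmetry bS (Spec.map (CommRingCat.ofHom ψ))
  have hε : ε.hom ≫ p = pullback.fst bS (Spec.map (CommRingCat.ofHom ψ)) :=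
    pullbackSymmetry_hom_comp_snd _ _
  rw [show (hVia (pullback.fst bS (Spec.map (CommRingCat.ofHom ψ))) aS
      (pullback.fst bS (Spec.map (CommRingCat.ofHom ψ)) ≫ aS) rfl F q : _ → _) =
      hVia ε.hom (p ≫ aS) (pullback.fst bS (Spec.map (CommRingCat.ofHom ψ)) ≫ aS)
        (by rw [← Category.assoc, hε]) F q ∘ hVia p aS (p ≫ aS) rfl F q from
    funext fun y => (hVia_comp ε.hom p aS _ (p ≫ aS) _ hε rfl (by rw [← Category.assoc, hε]) rfl F q y).symm]
  exact (hVia_bijective ε.hom _ _ _ F q).comp hP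

variable {X' : Scheme.{u}} {f' : X' ⟶ c.pt} {g' : X' ⟶ X} (sq : IsPullback g' f' f g)
  [PreservesFiniteLimits (EtCoh.pull g')]

include haff hc hb hstage hg in
/-- base change along a limit -/
theorem isIso_bcQ_limit : IsIso (EtBC.bcQ f g f' g' sq.w q F) := by
  refine EtFound.isIso_of_stalks _ fun Ω _ _ ξ => ?_
  let x := ξ (default : Spec (CommRingCat.of Ω))
  obtain ⟨AS⟩ := nonempty_sLoc (g x)
  obtain ⟨A⟩ := nonempty_sLoc x
  obtain ⟨ψ, hψl, hψ⟩ := AcycCover.exists_strictMap g x AS.R A.R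
  haveI := hψl
  obtain ⟨τ, hτ⟩ := UnitStalk.exists_resPt ξ (x := x) rfl A.R
  rw [← hτ]
  haveI := A.str.henselian
  haveI := A.str.isSepClosure.sep_closed
  let bS := pullback.snd f AS.spec
  let h := Spec.map (CommRingCat.ofHom ψ)
  let m := pullback.fst bS h
  haveI : PreservesFiniteLimits (EtCoh.pull m) := pull_preservesFiniteLimits _
  have hspec : Spec.map (CommRingCat.ofHom ψ) ≫ AS.spec = A.spec ≫ g := EtBC.specOf_map x AS.R A.R ψ hψ
  have hX : IsPullback (m ≫ pullback.fst f AS.spec) (pullback.snd bS h) f (A.spec ≫ g) := by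
    rw [← hspec]
    exact (IsPullback.of_hasPullback bS h).paste_horiz (IsPullback.of_hasPullback f AS.spec)
  refine (ConcreteCategory.isIso_iff_bijective _).1 ?_
  refine (isIso_stalk_iff_HpullVia sq x AS.R A.R ψ hψ τ (pullback f AS.spec) (pullback bS h) (pullback.fst f AS.spec)
    bS (IsPullback.of_hasPullback f AS.spec) (m ≫ pullback.fst f AS.spec) (pullback.snd bS h) hX m rfl
    pullback.condition F q).2 ?_
  haveI : QuasiCompact bS := MorphismProperty.pullback_snd _ _ inferInstance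
  haveI : QuasiSeparated bS := MorphismProperty.pullback_snd _ _ inferInstance
  have hb' := bijective_colim haff c hc b hb q g hg A AS ψ hspec bS (pullback.fst f AS.spec) F fun i φ hφ hφs => by
    haveI := hstage i
    have hy : b i (c.π.app (op i) x) = g x :=
      (Scheme.Hom.comp_apply _ _ _).symm.trans (congrArg (fun k : c.pt ⟶ S => k x) (hg i))
    intro
    refine bijective_of_isIso_bcQ (IsPullback.of_hasPullback f (b i)) F q hy AS (sl c x i) φ hφs
      (pullback f AS.spec) _ (pullback.fst f AS.spec) bS (IsPullback.of_hasPullback f AS.spec) _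
      (pullback.fst (Spec.map (CommRingCat.ofHom φ)) bS) ?_ _ rfl pullback.condition.symm
    rw [← hφs]
    exact (IsPullback.of_hasPullback (Spec.map (CommRingCat.ofHom φ)) bS).flip.paste_horiz (IsPullback.of_hasPullback f AS.spec)
  exact (show (⇑(EtCore.HpullVia m (pullback.fst f AS.spec) (m ≫ pullback.fst f AS.spec) rfl F q) : _ → _) =
    hVia m (pullback.fst f AS.spec) (m ≫ pullback.fst f AS.spec) rfl F q from
    funext fun ξ => HpullVia_eq m _ _ rfl F q ξ) ▸ hb'

end Groth.Agent.SmAcyc.Limit
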