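import Mathlib.AlgebraicGeometry.AffineTransitionLimit
import Mathlib.AlgebraicGeometry.Morphisms.Separated
import Groth.Agent.EtLimit.Sys

/-!
# Fibre products of limit systems
-/

set_option autoImplicit false
set_option linter.style.haveILetI false
set_option backward.isDefEq.respectTransparency.types false

universe u

open CategoryTheory CategoryTheory.Limits AlgebraicGeometry Opposite

namespace Groth.Agent.SmAcyc.Limit

@[reassoc]
theorem pmap_fst {X Y S X' Y' S' : Scheme.{u}} (f : X ⟶ S) (g : Y ⟶ S) (f' : X' ⟶ S') (g' : Y' ⟶ S')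
    (i₁ : X ⟶ X') (i₂ : Y ⟶ Y') (i₃ : S ⟶ S') (e₁ : f ≫ i₃ = i₁ ≫ f') (e₂ : g ≫ i₃ = i₂ ≫ g') :
    pullback.map f g f' g' i₁ i₂ i₃ e₁ e₂ ≫ pullback.fst f' g' = pullback.fst f g ≫ i₁ :=
  pullback.lift_fst _ _ _

@[reassoc]
theorem pmap_snd {X Y S X' Y' S' : Scheme.{u}} (f : X ⟶ S) (g : Y ⟶ S) (f' : X' ⟶ S') (g' : Y' ⟶ S')
    (i₁ : X ⟶ X') (i₂ : Y ⟶ Y') (i₃ : S ⟶ S') (e₁ : f ≫ i₃ = i₁ ≫ f') (e₂ : g ≫ i₃ = i₂ ≫ g') :
    pullback.map f g f' g' i₁ i₂ i₃ e₁ e₂ ≫ pullback.snd f' g' = pullback.snd f g ≫ i₂ :=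
  pullback.lift_snd _ _ _

/-- maps of fibre products along affine maps are affine -/
theorem isAffineHom_pullback_map {X Y S X' Y' S' : Scheme.{u}} (f : X ⟶ S) (g : Y ⟶ S) (f' : X' ⟶ S') (g' : Y' ⟶ S')
    (i₁ : X ⟶ X') (i₂ : Y ⟶ Y') (i₃ : S ⟶ S') (e₁ : f ≫ i₃ = i₁ ≫ f') (e₂ : g ≫ i₃ = i₂ ≫ g')
    [IsAffineHom i₁] [IsAffineHom i₂] [IsSeparated i₃] :
    IsAffineHom (pullback.map f g f' g' i₁ i₂ i₃ e₁ e₂) := by
  rw [show pullback.map f g f' g' i₁ i₂ i₃ e₁ e₂ = pullback.mapDesc f g i₃ ≫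
      pullback.map (f ≫ i₃) (g ≫ i₃) f' g' i₁ i₂ (𝟙 _) ((Category.comp_id _).trans e₁)
        ((Category.comp_id _).trans e₂) by
    ext
    · rw [Category.assoc, pmap_fst, pmap_fst, pullback.mapDesc, pmap_fst_assoc, Category.id_comp]
    · rw [Category.assoc, pmap_snd, pmap_snd, pullback.mapDesc, pmap_snd_assoc, Category.id_comp]]
  haveI : IsAffineHom (pullback.map (f ≫ i₃) (g ≫ i₃) f' g' i₁ i₂ (𝟙 _) ((Category.comp_id _).trans e₁)
      ((Category.comp_id _).trans e₂)) :=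
    MorphismProperty.pullbackMap (P := @IsAffineHom) ‹IsAffineHom i₁› ‹IsAffineHom i₂› e₁ e₂
  infer_instance

variable {ι : Type u} [Preorder ι] {Ts Ss Zs : ιᵒᵖ ⥤ Scheme.{u}} (gN : Ts ⟶ Ss) (zN : Zs ⟶ Ss)

/-- the fibre product system -/
noncomputable def pbSys : ιᵒᵖ ⥤ Scheme.{u} where
  obj a := pullback (gN.app a) (zN.app a)
  map {a b} m := pullback.map _ _ _ _ (Ts.map m) (Zs.map m) (Ss.map m) (gN.naturality m).symm (zN.naturality m).symm
  map_id a := by apply pullback.hom_ext <;> simp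
  map_comp m m' := by
    apply pullback.hom_ext
    · rw [Category.assoc, pmap_fst, pmap_fst, pmap_fst_assoc, Functor.map_comp]
    · rw [Category.assoc, pmap_snd, pmap_snd, pmap_snd_assoc, Functor.map_comp]

/-- the projections of the fibre product system -/
noncomputable def pbFst : pbSys gN zN ⟶ Ts where
  app a := pullback.fst (gN.app a) (zN.app a)
  naturality _ _ _ := pullback.lift_fst _ _ _

/-- the projections of the fibre product system -/
noncomputable def pbSnd : pbSys gN zN ⟶ Zs where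
  app a := pullback.snd (gN.app a) (zN.app a)
  naturality _ _ _ := pullback.lift_snd _ _ _

theorem pbSys_affine (haffT : ∀ ⦃a b : ιᵒᵖ⦄ (h : a ⟶ b), IsAffineHom (Ts.map h))
    (haffS : ∀ ⦃a b : ιᵒᵖ⦄ (h : a ⟶ b), IsAffineHom (Ss.map h))
    (haffZ : ∀ ⦃a b : ιᵒᵖ⦄ (h : a ⟶ b), IsAffineHom (Zs.map h)) ⦃a b : ιᵒᵖ⦄ (m : a ⟶ b) :
    IsAffineHom ((pbSys gN zN).map m) := by
  haveI := haffT m
  haveI := haffS m
  haveI := haffZ m
  exact isAffineHom_pullback_map _ _ _ _ (Ts.map m) (Zs.map m) (Ss.map m) (gN.naturality m).symm (zN.naturality m).symm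

theorem pbSys_compact (a : ιᵒᵖ) [QuasiCompact (gN.app a)] [CompactSpace ↥(Zs.obj a)] :
    CompactSpace ↥((pbSys gN zN).obj a) := by
  haveI : QuasiCompact (pullback.snd (gN.app a) (zN.app a)) := MorphismProperty.pullback_snd _ _ inferInstance
  exact (QuasiCompact.compactSpace_of_compactSpace (pullback.snd (gN.app a) (zN.app a)) :
    CompactSpace ↥(pullback (gN.app a) (zN.app a)))

theorem pbSys_quasiSeparated (a : ιᵒᵖ) [QuasiSeparated (gN.app a)] [QuasiSeparatedSpace ↥(Zs.obj a)] :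
    QuasiSeparatedSpace ↥((pbSys gN zN).obj a) := by
  haveI : QuasiSeparated (pullback.snd (gN.app a) (zN.app a)) := MorphismProperty.pullback_snd _ _ inferInstance
  exact (quasiSeparatedSpace_of_quasiSeparated (pullback.snd (gN.app a) (zN.app a)) :
    QuasiSeparatedSpace ↥(pullback (gN.app a) (zN.app a)))

variable (cT : Cone Ts) (cS : Cone Ss) (cZ : Cone Zs) {g : cT.pt ⟶ cS.pt} {z : cZ.pt ⟶ cS.pt}
  (hg : ∀ a, g ≫ cS.π.app a = cT.π.app a ≫ gN.app a) (hz : ∀ a, z ≫ cS.π.app a = cZ.π.app a ≫ zN.app a)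
  {W : Scheme.{u}} {aS : W ⟶ cT.pt} {bS : W ⟶ cZ.pt} (sq : IsPullback aS bS g z)

/-- the legs from the fibre product of the limits -/
noncomputable def pbLeg (a : ιᵒᵖ) : W ⟶ pullback (gN.app a) (zN.app a) :=
  pullback.lift (aS ≫ cT.π.app a) (bS ≫ cZ.π.app a)
    (by rw [Category.assoc, Category.assoc, ← hg, ← hz, ← Category.assoc, ← Category.assoc, sq.w])

/-- the cone of the fibre product system -/
noncomputable def pbCone : Cone (pbSys gN zN) where
  pt := W
  π :=
    { app := pbLeg gN zN cT cS cZ hg hz sq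
      naturality := fun a b m => by
        show 𝟙 W ≫ pbLeg gN zN cT cS cZ hg hz sq b = pbLeg gN zN cT cS cZ hg hz sq a ≫ (pbSys gN zN).map m
        rw [Category.id_comp]
        apply pullback.hom_ext
        · refine (pullback.lift_fst _ _ _).trans (Eq.symm ?_)
          refine (Category.assoc _ _ _).trans ((congrArg (_ ≫ ·) ((pbFst gN zN).naturality m)).trans ?_)
          refine (Category.assoc _ _ _).symm.trans ((congrArg (· ≫ Ts.map m) (pullback.lift_fst _ _ _)).trans ?_)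
          exact (Category.assoc _ _ _).trans (congrArg (aS ≫ ·) (cT.w m))
        · refine (pullback.lift_snd _ _ _).trans (Eq.symm ?_)
          refine (Category.assoc _ _ _).trans ((congrArg (_ ≫ ·) ((pbSnd gN zN).naturality m)).trans ?_)
          refine (Category.assoc _ _ _).symm.trans ((congrArg (· ≫ Zs.map m) (pullback.lift_snd _ _ _)).trans ?_)
          exact (Category.assoc _ _ _).trans (congrArg (bS ≫ ·) (cZ.w m)) }

theorem pbCone_fst (a : ιᵒᵖ) : (pbCone gN zN cT cS cZ hg hz sq).π.app a ≫ (pbFst gN zN).app a = aS ≫ cT.π.app a :=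
  pullback.lift_fst _ _ _

theorem pbCone_snd (a : ιᵒᵖ) : (pbCone gN zN cT cS cZ hg hz sq).π.app a ≫ (pbSnd gN zN).app a = bS ≫ cZ.π.app a :=
  pullback.lift_snd _ _ _

/-- the fibre product of the limits is the limit of the fibre products -/
theorem nonempty_isLimit_pbCone (hT : IsLimit cT) (hS : IsLimit cS) (hZ : IsLimit cZ) :
    Nonempty (IsLimit (pbCone gN zN cT cS cZ hg hz sq)) := by
  refine ⟨IsLimit.ofExistsUnique fun s => ?_⟩
  let sT : Cone Ts := (Cone.postcompose (pbFst gN zN)).obj s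
  let sZ : Cone Zs := (Cone.postcompose (pbSnd gN zN)).obj s
  let t : s.pt ⟶ cT.pt := hT.lift sT
  let r : s.pt ⟶ cZ.pt := hZ.lift sZ
  have ht : ∀ a, t ≫ cT.π.app a = s.π.app a ≫ pullback.fst (gN.app a) (zN.app a) := fun a => hT.fac sT a
  have hr : ∀ a, r ≫ cZ.π.app a = s.π.app a ≫ pullback.snd (gN.app a) (zN.app a) := fun a => hZ.fac sZ a
  have w : t ≫ g = r ≫ z := hS.hom_ext fun a => by
    rw [Category.assoc, Category.assoc, hg, hz, ← Category.assoc, ← Category.assoc, ht, hr, Category.assoc,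
      Category.assoc]
    exact congrArg (s.π.app a ≫ ·) pullback.condition
  refine ⟨sq.lift t r w, fun a => ?_, fun k hk => sq.hom_ext ?_ ?_⟩
  · show sq.lift t r w ≫ pbLeg gN zN cT cS cZ hg hz sq a = s.π.app a
    apply pullback.hom_ext
    · rw [pbLeg, Category.assoc, pullback.lift_fst, ← Category.assoc, sq.lift_fst, ht]
      rfl
    · rw [pbLeg, Category.assoc, pullback.lift_snd, ← Category.assoc, sq.lift_snd, hr]
      rfl
  · rw [sq.lift_fst]
    refine hT.hom_ext fun a => ?_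
    rw [ht, ← hk a, Category.assoc, Category.assoc]
    exact congrArg (k ≫ ·) (pbCone_fst gN zN cT cS cZ hg hz sq a).symm
  · rw [sq.lift_snd]
    refine hZ.hom_ext fun a => ?_
    rw [hr, ← hk a, Category.assoc, Category.assoc]
    exact congrArg (k ≫ ·) (pbCone_snd gN zN cT cS cZ hg hz sq a).symm

end Groth.Agent.SmAcyc.Limit
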