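import Groth.Agent.SmAcyc.Limit.PullSys
import Groth.Agent.SmAcyc.Limit.PullbackSys
import Groth.Agent.SmAcyc.Limit.BC

/-!
# Base change for colimits of systems of sheaves on limit schemes
-/

set_option autoImplicit false
set_option linter.style.haveILetI false
set_option linter.unusedSectionVars false
set_option backward.isDefEq.respectTransparency.types false

universe u

open CategoryTheory CategoryTheory.Limits AlgebraicGeometry Opposite IsLocalRing

namespace Groth.Agent.SmAcyc.Limit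

open Groth.Agent.EtLimit Groth.Agent.EtFound Groth.Agent.EtBC

theorem isPullback_congr_right {P X Y Z : Scheme.{u}} {a : P ⟶ X} {b : P ⟶ Y} {f : X ⟶ Z} {g g' : Y ⟶ Z}
    (H : IsPullback a b f g') (e : g' = g) : IsPullback a b f g := e ▸ H

section spec

variable {ι : Type u} [Preorder ι] [IsDirected ι (· ≤ ·)] [Nonempty ι] {Xs : ιᵒᵖ ⥤ Scheme.{u}} (c : Cone Xs)
  {x : c.pt} (A : SLoc c.pt x)

/-- the spectra of the strict localizations at the stages -/
noncomputable def specSys : ιᵒᵖ ⥤ Scheme.{u} := (Rs c A).op ⋙ Scheme.Spec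

/-- the maps to the stages -/
noncomputable def specNat : specSys c A ⟶ Xs where
  app a := (sl c x a.unop).spec
  naturality _ _ m := (tm_prop c A (leOfHom m.unop)).2.1

/-- the cone of the strict localizations -/
noncomputable def specCone : Cone (specSys c A) := Scheme.Spec.mapCone (coc c A).op

/-- the map of the strict localization of the limit -/
noncomputable def specPt : (specCone c A).pt ⟶ c.pt := A.spec

theorem specPt_π (a : ιᵒᵖ) : specPt c A ≫ c.π.app a = (specCone c A).π.app a ≫ (specNat c A).app a :=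
  (gi_spec c A a.unop).symm

theorem specSys_affine ⦃a b : ιᵒᵖ⦄ (m : a ⟶ b) : IsAffineHom ((specSys c A).map m) :=
  isAffineHom_of_isAffine (Spec.map ((Rs c A).map m.unop))

theorem nonempty_isLimit_specCone (hc : IsLimit c) (haff : ∀ ⦃a b : ιᵒᵖ⦄ (h : a ⟶ b), IsAffineHom (Xs.map h)) :
    Nonempty (IsLimit (specCone c A)) := by
  obtain ⟨hcol⟩ := nonempty_isColimit_coc c A hc haff
  haveI : PreservesLimitsOfSize.{u, u} Scheme.Spec.{u} := ΓSpec.adjunction.rightAdjoint_preservesLimits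
  exact ⟨isLimitOfPreserves Scheme.Spec hcol.op⟩

end spec

variable {ι : Type u} [Preorder ι] [IsDirected ι (· ≤ ·)] [Nonempty ι] {Xs Ss Ts Ys : ιᵒᵖ ⥤ Scheme.{u}}
  (fN : Xs ⟶ Ss) (gN : Ts ⟶ Ss) {cX : Cone Xs} {cS : Cone Ss} {cT : Cone Ts}
  {f : cX.pt ⟶ cS.pt} {g : cT.pt ⟶ cS.pt}
  (hf : ∀ a, f ≫ cS.π.app a = cX.π.app a ≫ fN.app a) (hg : ∀ a, g ≫ cS.π.app a = cT.π.app a ≫ gN.app a)

section lift

variable {x : cX.pt} (A : SLoc cS.pt (f x)) (B : SLoc cX.pt x) (ψ : A.R →+* B.R) [IsLocalHom ψ]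
  (hψ : Spec.map (CommRingCat.ofHom ψ) ≫ A.spec = B.spec ≫ f)

include hf in
theorem stage_point (i : ι) : fN.app (op i) (cX.π.app (op i) x) = cS.π.app (op i) (f x) :=
  (Scheme.Hom.comp_apply _ _ _).symm.trans
    ((congrArg (fun k : cX.pt ⟶ Ss.obj (op i) => k x) (hf (op i)).symm).trans (Scheme.Hom.comp_apply _ _ _))

include hf hψ in
theorem existsUnique_between {i j : ι} (h : i ≤ j) :
    ∃! φ : (sl cS (f x) i).R →+* (sl cX x j).R, IsLocalHom φ ∧
      Spec.map (CommRingCat.ofHom φ) ≫ (sl cS (f x) i).spec = (sl cX x j).spec ≫ fN.app (op j) ≫ trX h ∧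
        (gi cX B j).comp φ = ψ.comp (gi cS A i) := by
  haveI := B.str.henselian
  haveI : IsLocalHom (ψ.comp (gi cS A i)) := RingHom.isLocalHom_comp _ _
  refine existsUnique_lift (fN.app (op j) ≫ trX h) ?_ (sl cS (f x) i) (sl cX x j) (gi cX B j) (ψ.comp (gi cS A i)) ?_
  · refine (Scheme.Hom.comp_apply _ _ _).trans ((congrArg _ (stage_point fN hf j)).trans ?_)
    exact (Scheme.Hom.comp_apply _ _ _).symm.trans
      (congrArg (fun k : cS.pt ⟶ Ss.obj (op i) => k (f x)) (cS.w (homOfLE h).op))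
  · rw [CommRingCat.ofHom_comp, Spec.map_comp, Category.assoc, gi_spec, ← Category.assoc, hψ, Category.assoc]
    rw [← cS.w (homOfLE h).op, ← Category.assoc f, hf (op j), Category.assoc]
    exact (Category.assoc _ _ _).symm.trans ((congrArg (· ≫ fN.app (op j) ≫ trX h) (gi_spec cX B j).symm).trans
      (Category.assoc _ _ _))

/-- the maps between the strict localizations at the stages -/
noncomputable def lift1 (i : ι) : (sl cS (f x) i).R →+* (sl cX x i).R :=
  Classical.choose (existsUnique_between fN hf A B ψ hψ (le_refl i))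

theorem lift1_prop (i : ι) : IsLocalHom (lift1 fN hf A B ψ hψ i) ∧
    Spec.map (CommRingCat.ofHom (lift1 fN hf A B ψ hψ i)) ≫ (sl cS (f x) i).spec =
      (sl cX x i).spec ≫ fN.app (op i) ∧
    (gi cX B i).comp (lift1 fN hf A B ψ hψ i) = ψ.comp (gi cS A i) := by
  obtain ⟨h1, h2, h3⟩ := (Classical.choose_spec (existsUnique_between fN hf A B ψ hψ (le_refl i))).1
  refine ⟨h1, h2.trans ?_, h3⟩
  rw [show trX (Xs := Ss) (le_refl i) = 𝟙 _ from Ss.map_id _, Category.comp_id]

theorem lift1_tm {i j : ι} (h : i ≤ j) :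
    (tm cX B h).comp (lift1 fN hf A B ψ hψ i) = (lift1 fN hf A B ψ hψ j).comp (tm cS A h) := by
  haveI := (lift1_prop fN hf A B ψ hψ i).1
  haveI := (lift1_prop fN hf A B ψ hψ j).1
  refine (existsUnique_between fN hf A B ψ hψ h).unique ⟨RingHom.isLocalHom_comp _ _, ?_, ?_⟩
    ⟨RingHom.isLocalHom_comp _ _, ?_, ?_⟩
  · rw [CommRingCat.ofHom_comp, Spec.map_comp, Category.assoc, (lift1_prop fN hf A B ψ hψ i).2.1, ← Category.assoc,
      (tm_prop cX B h).2.1, Category.assoc]
    exact congrArg ((sl cX x j).spec ≫ ·) (fN.naturality (homOfLE h).op)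
  · rw [← RingHom.comp_assoc, (tm_prop cX B h).2.2, (lift1_prop fN hf A B ψ hψ i).2.2]
  · rw [CommRingCat.ofHom_comp, Spec.map_comp, Category.assoc, (tm_prop cS A h).2.1, ← Category.assoc,
      (lift1_prop fN hf A B ψ hψ j).2.1, Category.assoc]
  · rw [← RingHom.comp_assoc, (lift1_prop fN hf A B ψ hψ j).2.2, RingHom.comp_assoc, (tm_prop cS A h).2.2]

/-- the maps between the systems of strict localizations -/
noncomputable def liftNat : specSys cX B ⟶ specSys cS A where
  app a := Spec.map (CommRingCat.ofHom (lift1 fN hf A B ψ hψ a.unop))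
  naturality a b m := by
    show Spec.map ((Rs cX B).map m.unop) ≫ Spec.map (CommRingCat.ofHom (lift1 fN hf A B ψ hψ b.unop)) =
      Spec.map (CommRingCat.ofHom (lift1 fN hf A B ψ hψ a.unop)) ≫ Spec.map ((Rs cS A).map m.unop)
    rw [← Spec.map_comp, ← Spec.map_comp]
    exact congrArg Spec.map (CommRingCat.hom_ext (lift1_tm fN hf A B ψ hψ (leOfHom m.unop)))

/-- the map of the strict localizations of the limits -/
noncomputable def liftPt : (specCone cX B).pt ⟶ (specCone cS A).pt := Spec.map (CommRingCat.ofHom ψ)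

theorem liftPt_π (a : ιᵒᵖ) : liftPt A B ψ ≫ (specCone cS A).π.app a =
    (specCone cX B).π.app a ≫ (liftNat fN hf A B ψ hψ).app a := by
  show Spec.map (CommRingCat.ofHom ψ) ≫ Spec.map (CommRingCat.ofHom (gi cS A a.unop)) =
    Spec.map (CommRingCat.ofHom (gi cX B a.unop)) ≫ Spec.map (CommRingCat.ofHom (lift1 fN hf A B ψ hψ a.unop))
  rw [← Spec.map_comp, ← Spec.map_comp, ← CommRingCat.ofHom_comp, ← CommRingCat.ofHom_comp,
    (lift1_prop fN hf A B ψ hψ a.unop).2.2]

end lift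

variable {hN : Ys ⟶ Xs} {eN : Ys ⟶ Ts} (sq : ∀ a : ιᵒᵖ, IsPullback (eN.app a) (hN.app a) (gN.app a) (fN.app a))
  [∀ a : ιᵒᵖ, QuasiCompact (gN.app a)] [∀ a : ιᵒᵖ, QuasiSeparated (gN.app a)]
  (haffX : ∀ ⦃a b : ιᵒᵖ⦄ (h : a ⟶ b), IsAffineHom (Xs.map h))
  (haffS : ∀ ⦃a b : ιᵒᵖ⦄ (h : a ⟶ b), IsAffineHom (Ss.map h))
  (haffT : ∀ ⦃a b : ιᵒᵖ⦄ (h : a ⟶ b), IsAffineHom (Ts.map h))
  (hcX : IsLimit cX) (hcS : IsLimit cS) (hcT : IsLimit cT)

include haffS haffT hg hcS hcT in
/-- the map of the limits is quasi-compact and quasi-separated -/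
theorem qcqs_limit : QuasiCompact g ∧ QuasiSeparated g := by
  obtain ⟨i⟩ := ‹Nonempty ι›
  haveI : IsFiltered ι := isFiltered_of_directed_le_nonempty ι
  haveI : ∀ {a b : ιᵒᵖ} (f : a ⟶ b), IsAffineHom (Ts.map f) := fun f => haffT f
  haveI : ∀ {a b : ιᵒᵖ} (f : a ⟶ b), IsAffineHom (Ss.map f) := fun f => haffS f
  haveI := isAffineHom_π_app Ts cT hcT (op i)
  haveI := isAffineHom_π_app Ss cS hcS (op i)
  haveI : QuasiCompact (g ≫ cS.π.app (op i)) := by rw [hg (op i)]; infer_instance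
  haveI : QuasiSeparated (g ≫ cS.π.app (op i)) := by rw [hg (op i)]; infer_instance
  exact ⟨QuasiCompact.of_comp g (cS.π.app (op i)), QuasiSeparated.of_comp g (cS.π.app (op i))⟩

variable {Y : Scheme.{u}} {h : Y ⟶ cX.pt} {e : Y ⟶ cT.pt} (c : IsPullback e h g f)
  [∀ a, PreservesFiniteLimits (EtCoh.pull (eN.app a))] [PreservesFiniteLimits (EtCoh.pull e)]
  (Asys : Sys Ts) (G : ι ⥤ EtCoh.Ab cT.pt) (θψ : ∀ i : ι, (EtCoh.pull (cT.π.app (op i))).obj (Asys.obj i) ≅ G.obj i)
  (hθψ : SysColim Asys G θψ) (q : ℕ)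
  (hstage : ∀ i : ι, IsIso (EtBC.bcQ (gN.app (op i)) (fN.app (op i)) (hN.app (op i)) (eN.app (op i))
    (sq (op i)).w q (Asys.obj i)))

include hf hstage in
/-- the comparison at a stage -/
theorem bijective_stage {x : cX.pt} (A : SLoc cS.pt (f x)) (B : SLoc cX.pt x) (ψ : A.R →+* B.R) [IsLocalHom ψ]
    (hψ : Spec.map (CommRingCat.ofHom ψ) ≫ A.spec = B.spec ≫ f) (i : ι)
    [PreservesFiniteLimits (EtCoh.pull ((pbFst (pbSnd gN (specNat cS A)) (liftNat fN hf A B ψ hψ)).app (op i)))] :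
    Function.Bijective (EtCore.Hpull ((pbFst (pbSnd gN (specNat cS A)) (liftNat fN hf A B ψ hψ)).app (op i))
      ((EtCoh.pull ((pbFst gN (specNat cS A)).app (op i))).obj (Asys.obj i)) q) := by
  haveI := hstage i
  haveI := (lift1_prop fN hf A B ψ hψ i).1
  let zX := liftNat fN hf A B ψ hψ
  let a := (pbFst gN (specNat cS A)).app (op i)
  let m := (pbFst (pbSnd gN (specNat cS A)) zX).app (op i)
  have hsq : IsPullback (m ≫ a) ((pbSnd (pbSnd gN (specNat cS A)) zX).app (op i)) (gN.app (op i))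
      ((sl cX x i).spec ≫ fN.app (op i)) :=
    isPullback_congr_right ((IsPullback.of_hasPullback ((pbSnd gN (specNat cS A)).app (op i))
      (zX.app (op i))).paste_horiz (IsPullback.of_hasPullback (gN.app (op i)) ((specNat cS A).app (op i))))
      (lift1_prop fN hf A B ψ hψ i).2.1
  have hbij := bijective_of_isIso_bcQ (sq (op i)) (Asys.obj i) q (stage_point fN hf i) (sl cS (f x) i) (sl cX x i)
    (lift1 fN hf A B ψ hψ i) (lift1_prop fN hf A B ψ hψ i).2.1 ((pbSys gN (specNat cS A)).obj (op i))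
    ((pbSys (pbSnd gN (specNat cS A)) zX).obj (op i)) a
    ((pbSnd gN (specNat cS A)).app (op i)) (IsPullback.of_hasPullback (gN.app (op i)) ((specNat cS A).app (op i)))
    (m ≫ a) ((pbSnd (pbSnd gN (specNat cS A)) zX).app (op i)) hsq m rfl pullback.condition
  exact (Function.Bijective.of_comp_iff'
    (hmap_bijective_of_isIso (θm m a (m ≫ a) rfl (Asys.obj i)) q) _).1 hbij

include hf hg haffX haffS haffT hcX hcS hcT hθψ hstage in
set_option maxHeartbeats 2000000 in
/-- base change maps of the colimit of a system are isomorphisms if they are so at the stages -/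
theorem isIso_bcQ_colimit : IsIso (EtBC.bcQ g f h e c.w q (colimit G)) := by
  haveI hall : ∀ {A B : Scheme.{u}} (k : A ⟶ B), PreservesFiniteLimits (EtCoh.pull k) :=
    fun k => pull_preservesFiniteLimits k
  obtain ⟨_, _⟩ := qcqs_limit gN hg haffS haffT hcS hcT
  refine EtFound.isIso_of_stalks _ fun Ω _ _ ξ => ?_
  let x := ξ (default : Spec (CommRingCat.of Ω))
  obtain ⟨A⟩ := nonempty_sLoc (f x)
  obtain ⟨B⟩ := nonempty_sLoc x
  obtain ⟨ψ, hψl, hψ0⟩ := AcycCover.exists_strictMap f x A.R B.R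
  haveI := hψl
  obtain ⟨τ, hτ⟩ := UnitStalk.exists_resPt ξ (x := x) rfl B.R
  rw [← hτ]
  haveI := B.str.henselian
  haveI := B.str.isSepClosure.sep_closed
  have hψ : Spec.map (CommRingCat.ofHom ψ) ≫ A.spec = B.spec ≫ f := EtBC.specOf_map x A.R B.R ψ hψ0
  obtain ⟨hlS⟩ := nonempty_isLimit_specCone cS A hcS haffS
  obtain ⟨hlX⟩ := nonempty_isLimit_specCone cX B hcX haffX
  -- the base changes to the strict localizations
  let zS := specNat cS A
  let bS : pullback g (specPt cS A) ⟶ (specCone cS A).pt := pullback.snd g (specPt cS A)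
  let aS : pullback g (specPt cS A) ⟶ cT.pt := pullback.fst g (specPt cS A)
  let P := pbSys gN zS
  let cP := pbCone gN zS cT cS (specCone cS A) hg (specPt_π cS A) (IsPullback.of_hasPullback g (specPt cS A))
  obtain ⟨hlP⟩ := nonempty_isLimit_pbCone gN zS cT cS (specCone cS A) hg (specPt_π cS A)
    (IsPullback.of_hasPullback g (specPt cS A)) hcT hcS hlS
  have hbS : ∀ a, bS ≫ (specCone cS A).π.app a = cP.π.app a ≫ (pbSnd gN zS).app a := fun a =>
    (pbCone_snd gN zS cT cS (specCone cS A) hg (specPt_π cS A) _ a).symm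
  let zX := liftNat fN hf A B ψ hψ
  let m : pullback bS (liftPt A B ψ) ⟶ pullback g (specPt cS A) := pullback.fst bS (liftPt A B ψ)
  let Q := pbSys (pbSnd gN zS) zX
  let cQ := pbCone (pbSnd gN zS) zX cP (specCone cS A) (specCone cX B) hbS (liftPt_π fN hf A B ψ hψ)
    (IsPullback.of_hasPullback bS (liftPt A B ψ))
  obtain ⟨hlQ⟩ := nonempty_isLimit_pbCone (pbSnd gN zS) zX cP (specCone cS A) (specCone cX B) hbS
    (liftPt_π fN hf A B ψ hψ) (IsPullback.of_hasPullback bS (liftPt A B ψ)) hlP hlS hlX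
  have affP := pbSys_affine gN zS haffT haffS (specSys_affine cS A)
  have affQ := pbSys_affine (pbSnd gN zS) zX affP (specSys_affine cS A) (specSys_affine cX B)
  haveI : ∀ a, CompactSpace ↥((specSys cS A).obj a) := fun a =>
    (inferInstance : CompactSpace ↥(Spec ((Rs cS A).obj a.unop)))
  haveI : ∀ a, QuasiSeparatedSpace ↥((specSys cS A).obj a) := fun a =>
    (inferInstance : QuasiSeparatedSpace ↥(Spec ((Rs cS A).obj a.unop)))
  haveI : ∀ a, CompactSpace ↥((specSys cX B).obj a) := fun a =>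
    (inferInstance : CompactSpace ↥(Spec ((Rs cX B).obj a.unop)))
  haveI : ∀ a, QuasiSeparatedSpace ↥((specSys cX B).obj a) := fun a =>
    (inferInstance : QuasiSeparatedSpace ↥(Spec ((Rs cX B).obj a.unop)))
  haveI : ∀ a, QuasiCompact ((pbSnd gN zS).app a) := fun a =>
    MorphismProperty.pullback_snd (P := @QuasiCompact) _ _ inferInstance
  haveI : ∀ a, QuasiSeparated ((pbSnd gN zS).app a) := fun a =>
    MorphismProperty.pullback_snd (P := @QuasiSeparated) _ _ inferInstance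
  -- the systems
  let a₁ : ∀ i : ι, P.obj (op i) ⟶ Ts.obj (op i) := fun i => (pbFst gN zS).app (op i)
  have ha₁ : ∀ {i j : ι} (hij : i ≤ j), tr P hij ≫ a₁ i = a₁ j ≫ tr Ts hij := fun {i j} hij =>
    (pbFst gN zS).naturality (homOfLE hij).op
  have hl₁ : ∀ i : ι, cP.π.app (op i) ≫ a₁ i = aS ≫ cT.π.app (op i) := fun i =>
    pbCone_fst gN zS cT cS (specCone cS A) hg (specPt_π cS A) _ (op i)
  let m₁ : ∀ i : ι, Q.obj (op i) ⟶ P.obj (op i) := fun i => (pbFst (pbSnd gN zS) zX).app (op i)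
  have hm₁ : ∀ {i j : ι} (hij : i ≤ j), tr Q hij ≫ m₁ i = m₁ j ≫ tr P hij := fun {i j} hij =>
    (pbFst (pbSnd gN zS) zX).naturality (homOfLE hij).op
  have hl₂ : ∀ i : ι, cQ.π.app (op i) ≫ m₁ i = m ≫ cP.π.app (op i) := fun i =>
    pbCone_fst (pbSnd gN zS) zX cP (specCone cS A) (specCone cX B) hbS (liftPt_π fN hf A B ψ hψ) _ (op i)
  haveI : PreservesColimitsOfShape ι (EtCoh.pull aS) :=
    haveI : PreservesColimitsOfSize.{u, u} (EtCoh.pull aS) := (EtCoh.pullPushAdj aS).leftAdjoint_preservesColimits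
    inferInstance
  have hst : ∀ i, Function.Bijective (EtCore.Hpull (m₁ i) ((pullSys a₁ @ha₁ Asys).obj i) q) := fun i =>
    bijective_stage fN gN hf sq Asys q hstage A B ψ hψ i
  have hlim : Function.Bijective (EtCore.Hpull m ((EtCoh.pull aS).obj (colimit G)) q) :=
    bijective_Hpull_limit (cY := cP) m₁ @hm₁ (pullSys a₁ @ha₁ Asys) cQ m hl₂ (G ⋙ EtCoh.pull aS)
      (pullψ a₁ @ha₁ Asys cP aS hl₁ G θψ) affP hlP (fun a => pbSys_compact gN zS a)
      (fun a => pbSys_quasiSeparated gN zS a) affQ hlQ (fun a => pbSys_compact (pbSnd gN zS) zX a)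
      (fun a => pbSys_quasiSeparated (pbSnd gN zS) zX a) (pullψ_compat a₁ @ha₁ Asys cP aS hl₁ G θψ hθψ)
      (isColimitOfPreserves (EtCoh.pull aS) (colimit.isColimit G)) q hst
  have hX : IsPullback (m ≫ aS) (pullback.snd bS (liftPt A B ψ)) g (B.spec ≫ f) :=
    isPullback_congr_right
      ((IsPullback.of_hasPullback bS (liftPt A B ψ)).paste_horiz (IsPullback.of_hasPullback g (specPt cS A))) hψ
  refine (ConcreteCategory.isIso_iff_bijective _).1 ?_
  refine (isIso_stalk_iff_HpullVia c x A.R B.R ψ hψ0 τ (pullback g (specPt cS A)) (pullback bS (liftPt A B ψ)) aS bS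
    (IsPullback.of_hasPullback g (specPt cS A)) (m ≫ aS) (pullback.snd bS (liftPt A B ψ)) hX m rfl pullback.condition
    (colimit G) q).2 ?_
  rw [show (⇑(EtCore.HpullVia m aS (m ≫ aS) rfl (colimit G) q) : _ → _) =
    hVia m aS (m ≫ aS) rfl (colimit G) q from funext fun ξ => HpullVia_eq m aS (m ≫ aS) rfl (colimit G) q ξ]
  exact (hmap_bijective_of_isIso (θm m aS (m ≫ aS) rfl (colimit G)) q).comp hlim

end Groth.Agent.SmAcyc.Limit
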