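import Groth.Agent.UnitStalk.StrictPullback
import Groth.Prelude.Def_Hens2
import Groth.Agent.S0537

/-!
# Maps of strict localizations determined by a common receiver
-/

set_option autoImplicit false
set_option linter.style.haveILetI false
set_option backward.isDefEq.respectTransparency.types false

universe u

open CategoryTheory AlgebraicGeometry IsLocalRing

namespace Groth.Agent.SmAcyc.Limit

/-- a chosen strict localization -/
structure SLoc (X : Scheme.{u}) (x : X) where
  R : Type u
  [cr : CommRing R]
  [lr : IsLocalRing R]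
  [alg : Algebra (X.presheaf.stalk x) R]
  [loc : IsLocalHom (algebraMap (X.presheaf.stalk x) R)]
  [str : Hensel.IsStrictHenselization (X.presheaf.stalk x) R]

attribute [instance] SLoc.cr SLoc.lr SLoc.alg SLoc.loc SLoc.str

variable {X Y : Scheme.{u}}

/-- the spectrum of a strict localization with its map -/
noncomputable abbrev SLoc.spec {x : X} (A : SLoc X x) : Spec (CommRingCat.of A.R) ⟶ X := Hens2.specOf X x A.R

theorem nonempty_sLoc (x : X) : Nonempty (SLoc X x) := by
  obtain ⟨R, i1, i2, i3, i4, i5⟩ := S0537.result (X.presheaf.stalk x)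
  exact ⟨@SLoc.mk X x R i1 i2 i3 i4 i5⟩

/-- maps out of a stalk agree when they agree on the scheme -/
theorem comp_algebraMap_eq (x : X) {R T : Type u} [CommRing R] [Algebra (X.presheaf.stalk x) R] [CommRing T]
    (f f' : R →+* T) (h : Spec.map (CommRingCat.ofHom f) ≫ Hens2.specOf X x R =
      Spec.map (CommRingCat.ofHom f') ≫ Hens2.specOf X x R) :
    f.comp (algebraMap (X.presheaf.stalk x) R) = f'.comp (algebraMap (X.presheaf.stalk x) R) := by
  refine UnitStalk.hom_eq_of_fromSpecStalk x _ _ ?_
  rw [CommRingCat.ofHom_comp, CommRingCat.ofHom_comp, Spec.map_comp, Spec.map_comp, Category.assoc, Category.assoc]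
  exact h

theorem specMap_spec {x : X} (A : SLoc X x) {T : Type u} [CommRing T] (G : A.R →+* T) :
    Spec.map (CommRingCat.ofHom G) ≫ A.spec =
      Spec.map (CommRingCat.ofHom (G.comp (algebraMap (X.presheaf.stalk x) A.R))) ≫ X.fromSpecStalk x := by
  rw [CommRingCat.ofHom_comp, Spec.map_comp, Category.assoc]

/-- a map of strict localizations is determined by its composite with a local map to a henselian ring -/
theorem existsUnique_lift (g : X ⟶ Y) {x : X} {y : Y} (hy : g x = y) (A : SLoc Y y) (B : SLoc X x)
    {T : Type u} [CommRing T] [HenselianLocalRing T] (G : B.R →+* T) [IsLocalHom G]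
    (H : A.R →+* T) [IsLocalHom H]
    (hc : Spec.map (CommRingCat.ofHom H) ≫ A.spec = Spec.map (CommRingCat.ofHom G) ≫ B.spec ≫ g) :
    ∃! ψ : A.R →+* B.R, IsLocalHom ψ ∧ Spec.map (CommRingCat.ofHom ψ) ≫ A.spec = B.spec ≫ g ∧ G.comp ψ = H := by
  subst hy
  haveI := B.str.henselian
  haveI := B.str.isSepClosure.sep_closed
  haveI := B.str.isSepClosure.separable
  haveI := A.str.isSepClosure.separable
  let φ : Y.presheaf.stalk (g x) →+* X.presheaf.stalk x := (g.stalkMap x).hom
  haveI hφ : IsLocalHom φ := inferInstanceAs (IsLocalHom (g.stalkMap x).hom)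
  let α := algebraMap (X.presheaf.stalk x) B.R
  let β := algebraMap (Y.presheaf.stalk (g x)) A.R
  have key : ∀ ψ : A.R →+* B.R, Spec.map (CommRingCat.ofHom ψ) ≫ A.spec = B.spec ≫ g ↔ ψ.comp β = α.comp φ := by
    intro ψ
    have e : B.spec ≫ g = Spec.map (CommRingCat.ofHom (α.comp φ)) ≫ Y.fromSpecStalk (g x) :=
      (Category.assoc _ _ _).trans (UnitStalk.specMap_fromSpecStalk g x α).symm
    rw [e, specMap_spec]
    exact ⟨fun h => UnitStalk.hom_eq_of_fromSpecStalk _ _ _ h, fun h => by rw [h]⟩
  have hc' : H.comp β = (G.comp α).comp φ := by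
    refine UnitStalk.hom_eq_of_fromSpecStalk _ _ _ ?_
    rw [← specMap_spec, hc, UnitStalk.specMap_fromSpecStalk, ← Category.assoc, specMap_spec, Category.assoc]
  -- the residue map
  haveI : IsLocalHom (G.comp α) := RingHom.isLocalHom_comp _ _
  haveI : IsLocalHom (α.comp φ) := RingHom.isLocalHom_comp _ _
  letI : Algebra (ResidueField (X.presheaf.stalk x)) (ResidueField T) := (ResidueField.map (G.comp α)).toAlgebra
  let τ : ResidueField B.R →ₐ[ResidueField (X.presheaf.stalk x)] ResidueField T :=
    { ResidueField.map G with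
      commutes' := fun c => by
        obtain ⟨r, rfl⟩ := residue_surjective c
        rfl }
  have hrange : ∀ a, ResidueField.map H a ∈ τ.range := fun a => by
    refine UnitStalk.mem_range_of_isSepClosed τ _ ?_
    letI : Algebra (ResidueField (Y.presheaf.stalk (g x))) (ResidueField (X.presheaf.stalk x)) :=
      (ResidueField.map φ).toAlgebra
    letI : Algebra (ResidueField (Y.presheaf.stalk (g x))) (ResidueField T) :=
      ((ResidueField.map (G.comp α)).comp (ResidueField.map φ)).toAlgebra
    haveI : IsScalarTower (ResidueField (Y.presheaf.stalk (g x))) (ResidueField (X.presheaf.stalk x))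
        (ResidueField T) := IsScalarTower.of_algebraMap_eq fun _ => rfl
    let τ₁ : ResidueField A.R →ₐ[ResidueField (Y.presheaf.stalk (g x))] ResidueField T :=
      { ResidueField.map H with
        commutes' := fun c => by
          obtain ⟨r, rfl⟩ := residue_surjective c
          exact congrArg (residue T) congr($hc' r) }
    exact IsSeparable.tower_top (ResidueField (X.presheaf.stalk x))
      (show IsSeparable (ResidueField (Y.presheaf.stalk (g x))) (τ₁ a) from
        IsSeparable.map τ₁ τ₁.toRingHom.injective (Algebra.IsSeparable.isSeparable _ a))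
  choose σ hσ using hrange
  let τA : ResidueField A.R →+* ResidueField B.R :=
    { toFun := σ
      map_one' := τ.injective (by rw [hσ, map_one, map_one])
      map_mul' := fun a b => τ.injective (by rw [hσ, map_mul, map_mul, hσ, hσ])
      map_zero' := τ.injective (by rw [hσ, map_zero, map_zero])
      map_add' := fun a b => τ.injective (by rw [hσ, map_add, map_add, hσ, hσ]) }
  have hτA : τA.comp (ResidueField.map β) = ResidueField.map (α.comp φ) := RingHom.ext fun c => τ.injective (by
    obtain ⟨r, rfl⟩ := residue_surjective c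
    exact (hσ _).trans (congrArg (residue T) congr($hc' r)))
  obtain ⟨ψ, ⟨hψ, hψr⟩, hu⟩ := A.str.universal B.R (α.comp φ) τA hτA
  have hr : ∀ a, residue T (G (ψ a)) = residue T (H a) := fun a =>
    (congrArg τ (hψr a)).trans ((hσ _).trans rfl)
  haveI hψl : IsLocalHom ψ := ⟨fun a ha => by
    by_contra h
    have h0 : residue B.R (ψ a) = 0 := by rw [hψr, (residue_eq_zero_iff a).2 h, map_zero]
    exact ((residue_eq_zero_iff _).1 h0) ha⟩
  obtain ⟨K, -, huK⟩ := A.str.universal T ((G.comp α).comp φ) (ResidueField.map H) (RingHom.ext fun c => by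
    obtain ⟨r, rfl⟩ := residue_surjective c
    exact congrArg (residue T) congr($hc' r))
  have hG : G.comp ψ = H := (huK _ ⟨by rw [RingHom.comp_assoc, hψ, ← RingHom.comp_assoc], fun a => hr a⟩).trans
    (huK _ ⟨hc', fun a => rfl⟩).symm
  refine ⟨ψ, ⟨hψl, (key ψ).2 hψ, hG⟩, fun ψ' h' => hu ψ' ⟨(key ψ').1 h'.2.1, fun a => τ.injective ?_⟩⟩
  exact (congrArg (residue T) congr($(h'.2.2) a)).trans (hσ (residue A.R a)).symm

end Groth.Agent.SmAcyc.Limit
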