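import Groth.Agent.SmAcyc.Limit.BC
import Groth.Agent.S8534
import Groth.Agent.S3471
import Groth.Agent.AcycCover.Fibres
import Groth.Agent.UBC.Main

/-!
# Local acyclicity passes to limits
-/

set_option autoImplicit false
set_option linter.style.haveILetI false
set_option backward.isDefEq.respectTransparency.types false

universe u

open CategoryTheory CategoryTheory.Limits AlgebraicGeometry Opposite IsLocalRing

namespace Groth.Agent.SmAcyc.Limit

open Groth.Agent.EtLimit Groth.Agent.EtFound Groth.Agent.EtBC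

/-- constant coefficients on an acyclic scheme over a point -/
theorem bijective_hVia_acyclic {Ω : Type u} [Field Ω] [IsSepClosed Ω] {X : Scheme.{u}}
    (h : X ⟶ Spec (CommRingCat.of Ω)) {L : Set ℕ} {n : ℕ} (hX : EtAcyc.IsAcyclicSchemeN L n X)
    {ℓ : ℕ} (hℓ : ℓ.Prime) (hℓL : ℓ ∈ L) (q : ℕ) (hq : q ≤ n) [PreservesFiniteLimits (EtCoh.pull h)] :
    Function.Bijective (hVia h (𝟙 _) (h ≫ 𝟙 _) rfl (EtCoh.const (Spec (CommRingCat.of Ω)) (ZMod ℓ)) q) := by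
  haveI : Fact ℓ.Prime := ⟨hℓ⟩
  haveI := hX.1
  haveI := hX.2.1
  let C := EtCoh.const (Spec (CommRingCat.of Ω)) (ZMod ℓ)
  have hbij : Function.Bijective (EtCore.Hpull h C q) := by
    rcases Nat.eq_zero_or_pos q with rfl | hpos
    · exact AcycCover.const_bijective h (ZMod ℓ)
    · haveI : IsSepClosed (ResidueField Ω) := UBC.isSepClosed_residueField_field Ω
      haveI := S0073.result Ω C q hpos
      haveI := hX.2.2 ℓ hℓ hℓL q hpos hq
      haveI : Subsingleton (EtCoh.H X ((EtCoh.pull h).obj C) q) :=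
        (EtBC.hmap_bijective_of_isIso (EtCore.pullConst h (ZMod ℓ)).hom q).1.subsingleton
      exact ⟨fun a b _ => Subsingleton.elim _ _, fun b => ⟨0, Subsingleton.elim _ _⟩⟩
  haveI : IsIso (appOf (θPull h (𝟙 _) (h ≫ 𝟙 _) rfl) C) := by delta appOf; infer_instance
  exact (EtBC.hmap_bijective_of_isIso (appOf (θPull h (𝟙 _) (h ≫ 𝟙 _) rfl) C) q).comp
    (UnitStalk.Hpull_bijective_of_iso h (EtCore.pullConst (𝟙 (Spec (CommRingCat.of Ω))) (ZMod ℓ)).hom q hbij)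

/-- a limit of locally acyclic schemes over the base is locally acyclic -/
theorem isLocAcyclicN_limit {ι : Type u} [Preorder ι] [IsDirected ι (· ≤ ·)] [Nonempty ι] {S : Scheme.{u}}
    {Xs : ιᵒᵖ ⥤ Scheme.{u}} (haff : ∀ ⦃a b : ιᵒᵖ⦄ (h : a ⟶ b), IsAffineHom (Xs.map h)) (c : Cone Xs)
    (hc : IsLimit c) (b : ∀ i : ι, Xs.obj (op i) ⟶ S) (hb : ∀ {i j : ι} (h : i ≤ j), trX h ≫ b i = b j)
    (g : c.pt ⟶ S) (hg : ∀ i, c.π.app (op i) ≫ b i = g) (L : Set ℕ) (n : ℕ)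
    (hst : ∀ i, EtAcyc.IsLocAcyclicN (b i) L n) : EtAcyc.IsLocAcyclicN g L n := by
  by_cases hL : ∃ ℓ ∈ L, ℓ.Prime
  swap
  · exact fun x RY RX _ _ _ _ _ _ _ _ _ _ _ _ _ V => UBC.compN_of_no_prime _ hL n
  refine (S3471.result g L hL n).2 ?_
  intro x RS RX _ _ _ _ _ _ _ _ _ _ _ _ hcomp y Ω _ _ _ _
  haveI hall : ∀ {A B : Scheme.{u}} (f : A ⟶ B), PreservesFiniteLimits (EtCoh.pull f) :=
    fun f => pull_preservesFiniteLimits f
  let A : SLoc c.pt x := ⟨RX⟩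
  let AS : SLoc S (g x) := ⟨RS⟩
  let ψ : AS.R →+* A.R := algebraMap RS RX
  haveI : IsLocalHom ψ := inferInstanceAs (IsLocalHom (algebraMap RS RX))
  have hψ : Spec.map (CommRingCat.ofHom ψ) ≫ AS.spec = A.spec ≫ g := EtBC.specOf_map x RS RX _ hcomp
  let h := Spec.map (CommRingCat.ofHom ψ)
  let bS : Spec (CommRingCat.of Ω) ⟶ Spec (CommRingCat.of AS.R) := EtAcyc.geomPt (Spec (CommRingCat.of RS)) y Ω
  let pr := pullback.fst bS h
  have hfib : ∀ (i : ι) (φ : AS.R →+* (sl c x i).R), IsLocalHom φ →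
      Spec.map (CommRingCat.ofHom φ) ≫ AS.spec = (sl c x i).spec ≫ b i →
      EtAcyc.IsAcyclicSchemeN L n (pullback (Spec.map (CommRingCat.ofHom φ)) bS) := fun i φ hφ hφs => by
    haveI := hφ
    exact S8534.result _ L hL n (AcycCover.onStrictLocalizations_apply (b i) (hst i) (c.π.app (op i) x) (g x)
      ((Scheme.Hom.comp_apply _ _ _).symm.trans (congrArg (fun k : c.pt ⟶ S => k x) (hg i)))
      AS.R (sl c x i).R φ hφs) y Ω
  have hbij : ∀ ℓ : ℕ, ℓ.Prime → ℓ ∈ L → ∀ q ≤ n, Function.Bijective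
      (EtCore.Hpull pr (EtCoh.const (Spec (CommRingCat.of Ω)) (ZMod ℓ)) q) := fun ℓ hℓ hℓL q hq => by
    have h1 := bijective_colim haff c hc b hb q g hg A AS ψ hψ bS (𝟙 _)
      (EtCoh.const (Spec (CommRingCat.of Ω)) (ZMod ℓ))
      (fun i φ hφ hφs => by intro; exact bijective_hVia_acyclic _ (hfib i φ hφ hφs) hℓ hℓL q hq)
    haveI : IsIso (appOf (θPull pr (𝟙 _) (pr ≫ 𝟙 _) rfl) (EtCoh.const (Spec (CommRingCat.of Ω)) (ZMod ℓ))) := by
      delta appOf; infer_instance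
    exact UnitStalk.Hpull_bijective_of_iso pr (EtCore.pullConst (𝟙 (Spec (CommRingCat.of Ω))) (ZMod ℓ)).inv q
      ((Function.Bijective.of_comp_iff' (EtBC.hmap_bijective_of_isIso
        (appOf (θPull pr (𝟙 _) (pr ≫ 𝟙 _) rfl) (EtCoh.const (Spec (CommRingCat.of Ω)) (ZMod ℓ))) q) _).1 h1)
  refine AcycCover.isAcyclicSchemeN_of_iso (pullbackSymmetry h bS) ?_
  obtain ⟨ℓ, hℓL, hℓ⟩ := hL
  haveI : Fact ℓ.Prime := ⟨hℓ⟩
  obtain ⟨hne, hconn⟩ := FibreAcyc.nonempty_connectedSpace Ω pr (ZMod ℓ) (hbij ℓ hℓ hℓL 0 (Nat.zero_le n))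
  refine ⟨hne, hconn, fun p hp hpL q hq1 hqn => ?_⟩
  haveI : IsSepClosed (ResidueField Ω) := UBC.isSepClosed_residueField_field Ω
  haveI := S0073.result Ω (EtCoh.const (Spec (CommRingCat.of Ω)) (ZMod p)) q hq1
  haveI := (hbij p hp hpL q hqn).2.subsingleton
  exact (EtBC.hmap_bijective_of_isIso (EtCore.pullConst pr (ZMod p)).hom q).2.subsingleton

end Groth.Agent.SmAcyc.Limit
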