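import Groth.Agent.EtLimit.Bridge
import Groth.Agent.EtLimit.Const
import Groth.Agent.EtBC.CompNKilled

/-!
# Pullback of systems of sheaves along morphisms of limit systems
-/

set_option autoImplicit false
set_option linter.style.haveILetI false
set_option backward.isDefEq.respectTransparency.types false

universe u

open CategoryTheory CategoryTheory.Limits AlgebraicGeometry Opposite

namespace Groth.Agent.SmAcyc.Limit

open Groth.Agent.EtLimit Groth.Agent.EtFound Groth.Agent.EtBC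

section square

variable {A B B' B'' C C' : Scheme.{u}}

/-- composition of pullbacks -/
noncomputable def θm (u : A ⟶ B) (v : B ⟶ C) (w : A ⟶ C) (h : u ≫ v = w) (F : EtCoh.Ab C) :
    (EtCoh.pull u).obj ((EtCoh.pull v).obj F) ⟶ (EtCoh.pull w).obj F :=
  (θPull u v w h).hom.app F

instance isIso_θm (u : A ⟶ B) (v : B ⟶ C) (w : A ⟶ C) (h : u ≫ v = w) (F : EtCoh.Ab C) : IsIso (θm u v w h F) :=
  inferInstanceAs (IsIso ((θPull u v w h).hom.app F))

theorem θm_assoc (p : A ⟶ B) (v : B ⟶ B') (u : B' ⟶ C) (w : B ⟶ C) (q : A ⟶ B') (r : A ⟶ C) (hw : v ≫ u = w)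
    (hq : p ≫ v = q) (hr : q ≫ u = r) (hr' : p ≫ w = r) (F : EtCoh.Ab C) :
    θm p v q hq ((EtCoh.pull u).obj F) ≫ θm q u r hr F =
      (EtCoh.pull p).map (θm v u w hw F) ≫ θm p w r hr' F :=
  θPull_assoc p v u w q r hw hq hr hr' F

theorem θm_nat (u : A ⟶ B) (v : B ⟶ C) (w : A ⟶ C) (h : u ≫ v = w) {F F' : EtCoh.Ab C} (a : F ⟶ F') :
    (EtCoh.pull u).map ((EtCoh.pull v).map a) ≫ θm u v w h F' = θm u v w h F ≫ (EtCoh.pull w).map a :=
  (θPull u v w h).hom.naturality a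

/-- the two ways around a commutative square -/
noncomputable def sqMap (u : A ⟶ B) (v : B ⟶ C) (u' : A ⟶ B') (v' : B' ⟶ C) (w : u ≫ v = u' ≫ v')
    (F : EtCoh.Ab C) : (EtCoh.pull u).obj ((EtCoh.pull v).obj F) ⟶ (EtCoh.pull u').obj ((EtCoh.pull v').obj F) :=
  θm u v (u ≫ v) rfl F ≫ inv (θm u' v' (u ≫ v) w.symm F)

instance isIso_sqMap (u : A ⟶ B) (v : B ⟶ C) (u' : A ⟶ B') (v' : B' ⟶ C) (w : u ≫ v = u' ≫ v')
    (F : EtCoh.Ab C) : IsIso (sqMap u v u' v' w F) :=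
  inferInstanceAs (IsIso (_ ≫ _))

theorem sqMap_θm (u : A ⟶ B) (v : B ⟶ C) (u' : A ⟶ B') (v' : B' ⟶ C) (w : u ≫ v = u' ≫ v') (d : A ⟶ C)
    (h : u ≫ v = d) (h' : u' ≫ v' = d) (F : EtCoh.Ab C) :
    sqMap u v u' v' w F ≫ θm u' v' d h' F = θm u v d h F := by
  subst h
  rw [sqMap, Category.assoc, IsIso.inv_hom_id, Category.comp_id]

theorem sqMap_nat (u : A ⟶ B) (v : B ⟶ C) (u' : A ⟶ B') (v' : B' ⟶ C) (w : u ≫ v = u' ≫ v') {F F' : EtCoh.Ab C}
    (a : F ⟶ F') : (EtCoh.pull u).map ((EtCoh.pull v).map a) ≫ sqMap u v u' v' w F' =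
      sqMap u v u' v' w F ≫ (EtCoh.pull u').map ((EtCoh.pull v').map a) := by
  rw [← cancel_mono (θm u' v' (u ≫ v) w.symm F'), Category.assoc, Category.assoc,
    sqMap_θm u v u' v' w (u ≫ v) rfl w.symm, θm_nat, θm_nat, ← Category.assoc, sqMap_θm u v u' v' w (u ≫ v) rfl w.symm]

/-- the two ways around a commutative square, as an isomorphism -/
noncomputable def sqIso (u : A ⟶ B) (v : B ⟶ C) (u' : A ⟶ B') (v' : B' ⟶ C) (w : u ≫ v = u' ≫ v')
    (F : EtCoh.Ab C) : (EtCoh.pull u).obj ((EtCoh.pull v).obj F) ≅ (EtCoh.pull u').obj ((EtCoh.pull v').obj F) :=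
  asIso (sqMap u v u' v' w F)

/-- pasting of two squares -/
theorem sqMap_paste (u : A ⟶ B) (v : B ⟶ B'') (uv : A ⟶ B'') (huv : u ≫ v = uv) (a : A ⟶ B') (b : B ⟶ C)
    (c : B'' ⟶ C') (u' : B' ⟶ C) (v' : C ⟶ C') (uv' : B' ⟶ C') (huv' : u' ≫ v' = uv') (s₁ : u ≫ b = a ≫ u')
    (s₂ : v ≫ c = b ≫ v') (s : uv ≫ c = a ≫ uv') (F : EtCoh.Ab C') :
    θm u v uv huv ((EtCoh.pull c).obj F) ≫ sqMap uv c a uv' s F =
      (EtCoh.pull u).map (sqMap v c b v' s₂ F) ≫ sqMap u b a u' s₁ ((EtCoh.pull v').obj F) ≫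
        (EtCoh.pull a).map (θm u' v' uv' huv' F) := by
  rw [← cancel_mono (θm a uv' (uv ≫ c) s.symm F), Category.assoc, sqMap_θm uv c a uv' s (uv ≫ c) rfl s.symm,
    Category.assoc, Category.assoc,
    ← θm_assoc a u' v' uv' (a ≫ u') (uv ≫ c) huv' rfl (by rw [s, ← huv', Category.assoc]) s.symm F,
    ← Category.assoc (sqMap u b a u' s₁ ((EtCoh.pull v').obj F)), sqMap_θm u b a u' s₁ (a ≫ u') s₁ rfl,
    θm_assoc u b v' (b ≫ v') (a ≫ u') (uv ≫ c) rfl s₁ (by rw [s, ← huv', Category.assoc])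
      (by rw [← s₂, ← huv, Category.assoc]) F,
    θm_assoc u v c (b ≫ v') uv (uv ≫ c) s₂ huv rfl (by rw [← s₂, ← huv, Category.assoc]) F,
    ← Functor.map_comp_assoc, sqMap_θm v c b v' s₂ (b ≫ v') s₂ rfl]

/-- cohomological form of a square -/
theorem Hpull_sqMap (u : A ⟶ B) (v : B ⟶ C) (u' : A ⟶ B') (v' : B' ⟶ C) (w : u ≫ v = u' ≫ v')
    [PreservesFiniteLimits (EtCoh.pull u)] [PreservesFiniteLimits (EtCoh.pull v)]
    [PreservesFiniteLimits (EtCoh.pull u')] [PreservesFiniteLimits (EtCoh.pull v')] (F : EtCoh.Ab C) (q : ℕ)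
    (x : EtCoh.H C F q) :
    hmap (sqMap u v u' v' w F) q (EtCore.Hpull u _ q (EtCore.Hpull v F q x)) =
      EtCore.Hpull u' _ q (EtCore.Hpull v' F q x) := by
  haveI := pull_preservesFiniteLimits (u ≫ v)
  have e1 : hmap (θm u v (u ≫ v) rfl F) q (EtCore.Hpull u _ q (EtCore.Hpull v F q x)) =
      EtCore.Hpull (u ≫ v) F q x := (Hpull_comp u v (u ≫ v) rfl F q x).symm
  have e2 : hmap (θm u' v' (u ≫ v) w.symm F) q (EtCore.Hpull u' _ q (EtCore.Hpull v' F q x)) =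
      EtCore.Hpull (u ≫ v) F q x := (Hpull_comp u' v' (u ≫ v) w.symm F q x).symm
  refine (hmap_bijective_of_isIso (θm u' v' (u ≫ v) w.symm F) q).1 ?_
  rw [e2, ← e1, hmap_comp, sqMap_θm u v u' v' w (u ≫ v) rfl w.symm]

/-- cohomological form of a square followed by a map -/
theorem Hpull_sqMap_map (u : A ⟶ B) (v : B ⟶ C) (u' : A ⟶ B') (v' : B' ⟶ C) (w : u ≫ v = u' ≫ v')
    [PreservesFiniteLimits (EtCoh.pull u)] [PreservesFiniteLimits (EtCoh.pull v)]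
    [PreservesFiniteLimits (EtCoh.pull u')] [PreservesFiniteLimits (EtCoh.pull v')] (F : EtCoh.Ab C)
    {M : EtCoh.Ab B'} (α : (EtCoh.pull v').obj F ⟶ M) (q : ℕ) (x : EtCoh.H C F q) :
    hmap (sqMap u v u' v' w F ≫ (EtCoh.pull u').map α) q (EtCore.Hpull u _ q (EtCore.Hpull v F q x)) =
      EtCore.Hpull u' M q (hmap α q (EtCore.Hpull v' F q x)) := by
  rw [← hmap_comp, Hpull_sqMap, EtBC.Hpull_hmap]

end square

section system

variable {ι : Type u} [Preorder ι] {Zs Ys : ιᵒᵖ ⥤ Scheme.{u}} (m : ∀ i : ι, Zs.obj (op i) ⟶ Ys.obj (op i))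
  (hm : ∀ {i j : ι} (h : i ≤ j), tr Zs h ≫ m i = m j ≫ tr Ys h) (A : Sys Ys)

/-- the transitions of the pulled back system -/
noncomputable def pullSysφ {i j : ι} (h : i ≤ j) :
    (EtCoh.pull (tr Zs h)).obj ((EtCoh.pull (m i)).obj (A.obj i)) ⟶ (EtCoh.pull (m j)).obj (A.obj j) :=
  sqMap (tr Zs h) (m i) (m j) (tr Ys h) (hm h) (A.obj i) ≫ (EtCoh.pull (m j)).map (A.φ h)

theorem pullSys_cocycle {i j k : ι} (hij : i ≤ j) (hjk : j ≤ k) :
    (θPull (tr Zs hjk) (tr Zs hij) (tr Zs (hij.trans hjk)) (tr_comp Zs hij hjk)).hom.app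
        ((EtCoh.pull (m i)).obj (A.obj i)) ≫ pullSysφ m @hm A (hij.trans hjk) =
      (EtCoh.pull (tr Zs hjk)).map (pullSysφ m @hm A hij) ≫ pullSysφ m @hm A hjk := by
  show θm (tr Zs hjk) (tr Zs hij) (tr Zs (hij.trans hjk)) (tr_comp Zs hij hjk) _ ≫ _ = _
  rw [pullSysφ, pullSysφ, pullSysφ, ← Category.assoc,
    sqMap_paste (tr Zs hjk) (tr Zs hij) _ (tr_comp Zs hij hjk) (m k) (m j) (m i) (tr Ys hjk) (tr Ys hij) _
      (tr_comp Ys hij hjk) (hm hjk) (hm hij) (hm (hij.trans hjk)) (A.obj i),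
    Category.assoc, Category.assoc, ← Functor.map_comp,
    show θm (tr Ys hjk) (tr Ys hij) _ (tr_comp Ys hij hjk) (A.obj i) ≫ A.φ (hij.trans hjk) =
      (EtCoh.pull (tr Ys hjk)).map (A.φ hij) ≫ A.φ hjk from A.cocycle hij hjk,
    Functor.map_comp, Functor.map_comp, Category.assoc]
  congr 1
  rw [← Category.assoc, ← Category.assoc, sqMap_nat]

/-- the pulled back system -/
noncomputable def pullSys : Sys Zs :=
  ⟨fun i => (EtCoh.pull (m i)).obj (A.obj i), @pullSysφ _ _ _ _ m @hm A, @pullSys_cocycle _ _ _ _ m @hm A⟩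

variable {cY : Cone Ys} (cZ : Cone Zs) (l : cZ.pt ⟶ cY.pt)
  (hl : ∀ i : ι, cZ.π.app (op i) ≫ m i = l ≫ cY.π.app (op i))
  (G : ι ⥤ EtCoh.Ab cY.pt) (ψ : ∀ i : ι, (EtCoh.pull (cY.π.app (op i))).obj (A.obj i) ≅ G.obj i)

/-- the sheaves of the pulled back system on the limit -/
noncomputable def pullψ (i : ι) :
    (EtCoh.pull (cZ.π.app (op i))).obj ((pullSys m @hm A).obj i) ≅ (G ⋙ EtCoh.pull l).obj i :=
  sqIso (cZ.π.app (op i)) (m i) l (cY.π.app (op i)) (hl i) (A.obj i) ≪≫ (EtCoh.pull l).mapIso (ψ i)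

theorem pullψ_hom (i : ι) : (pullψ m @hm A cZ l hl G ψ i).hom =
    sqMap (cZ.π.app (op i)) (m i) l (cY.π.app (op i)) (hl i) (A.obj i) ≫ (EtCoh.pull l).map (ψ i).hom :=
  rfl

theorem pullψ_compat (hψ : SysColim A G ψ) : SysColim (pullSys m @hm A) (G ⋙ EtCoh.pull l) (pullψ m @hm A cZ l hl G ψ) := by
  intro i j h
  have e : θm (cY.π.app (op j)) (tr Ys h) (cY.π.app (op i)) (cone_w cY h) (A.obj i) ≫ (ψ i).hom ≫ G.map (homOfLE h) =
      (EtCoh.pull (cY.π.app (op j))).map (A.φ h) ≫ (ψ j).hom := hψ h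
  show θm (cZ.π.app (op j)) (tr Zs h) (cZ.π.app (op i)) (cone_w cZ h) ((EtCoh.pull (m i)).obj (A.obj i)) ≫
      (pullψ m @hm A cZ l hl G ψ i).hom ≫ (EtCoh.pull l).map (G.map (homOfLE h)) =
    (EtCoh.pull (cZ.π.app (op j))).map (pullSysφ m @hm A h) ≫ (pullψ m @hm A cZ l hl G ψ j).hom
  rw [pullψ_hom, pullψ_hom, pullSysφ, Category.assoc, ← Category.assoc (θm _ _ _ _ _),
    sqMap_paste (cZ.π.app (op j)) (tr Zs h) _ (cone_w cZ h) l (m j) (m i) (cY.π.app (op j)) (tr Ys h) _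
      (cone_w cY h) (hl j) (hm h) (hl i) (A.obj i),
    Category.assoc, Category.assoc]
  erw [← (EtCoh.pull l).map_comp, ← (EtCoh.pull l).map_comp, e]
  rw [Functor.map_comp, Functor.map_comp, Category.assoc]
  congr 1
  rw [← Category.assoc, ← Category.assoc, sqMap_nat]
  rfl

variable [Nonempty ι] [IsDirected ι (· ≤ ·)]

include hm hl in
/-- bijectivity of pullback at the stages passes to the limit -/
theorem bijective_Hpull_limit
    (haffY : ∀ ⦃a b : ιᵒᵖ⦄ (h : a ⟶ b), IsAffineHom (Ys.map h)) (hlimY : IsLimit cY)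
    (hqcY : ∀ a, CompactSpace ↥(Ys.obj a)) (hqsY : ∀ a, QuasiSeparatedSpace ↥(Ys.obj a))
    (haffZ : ∀ ⦃a b : ιᵒᵖ⦄ (h : a ⟶ b), IsAffineHom (Zs.map h)) (hlimZ : IsLimit cZ)
    (hqcZ : ∀ a, CompactSpace ↥(Zs.obj a)) (hqsZ : ∀ a, QuasiSeparatedSpace ↥(Zs.obj a))
    (hψ : SysColim A G ψ) {C : Cocone G} (hC : IsColimit C) (q : ℕ)
    [PreservesFiniteLimits (EtCoh.pull l)] [∀ i, PreservesFiniteLimits (EtCoh.pull (m i))]
    (hst : ∀ i, Function.Bijective (EtCore.Hpull (m i) (A.obj i) q)) :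
    Function.Bijective (EtCore.Hpull l C.pt q) := by
  haveI : ∀ a, PreservesFiniteLimits (EtCoh.pull (cY.π.app a)) := fun a => pull_preservesFiniteLimits _
  haveI : ∀ ⦃a b : ιᵒᵖ⦄ (h : a ⟶ b), PreservesFiniteLimits (EtCoh.pull (Ys.map h)) := fun a b h =>
    pull_preservesFiniteLimits _
  haveI : ∀ a, PreservesFiniteLimits (EtCoh.pull (cZ.π.app a)) := fun a => pull_preservesFiniteLimits _
  haveI : ∀ ⦃a b : ιᵒᵖ⦄ (h : a ⟶ b), PreservesFiniteLimits (EtCoh.pull (Zs.map h)) := fun a b h =>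
    pull_preservesFiniteLimits _
  haveI : PreservesColimitsOfShape ι (EtCoh.pull l) :=
    haveI : PreservesColimitsOfSize.{u, u} (EtCoh.pull l) := (EtCoh.pullPushAdj l).leftAdjoint_preservesColimits
    inferInstance
  let B := pullSys m @hm A
  let ψ' := pullψ m @hm A cZ l hl G ψ
  let C' := (EtCoh.pull l).mapCocone C
  have HY := SysColim.comparison haffY hlimY hqcY hqsY hψ hC q
  have HZ := SysColim.comparison haffZ hlimZ hqcZ hqsZ (pullψ_compat m @hm A cZ l hl G ψ hψ)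
    (isColimitOfPreserves (EtCoh.pull l) hC) q
  -- the stage maps commute with the maps to the limits
  have key : ∀ (j : ι) (y : EtCoh.H (Ys.obj (op j)) (A.obj j) q),
      hThen (cZ.π.app (op j)) (B.obj j) (colimLeg ψ' C' j) q (EtCore.Hpull (m j) (A.obj j) q y) =
        EtCore.Hpull l C.pt q (hThen (cY.π.app (op j)) (A.obj j) (colimLeg ψ C j) q y) := fun j y => by
    show hmap (((sqMap (cZ.π.app (op j)) (m j) l (cY.π.app (op j)) (hl j) (A.obj j)) ≫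
        (EtCoh.pull l).map (ψ j).hom) ≫ (EtCoh.pull l).map (C.ι.app j)) q
          (EtCore.Hpull (cZ.π.app (op j)) _ q (EtCore.Hpull (m j) (A.obj j) q y)) =
      EtCore.Hpull l C.pt q (hmap ((ψ j).hom ≫ C.ι.app j) q (EtCore.Hpull (cY.π.app (op j)) (A.obj j) q y))
    rw [Category.assoc, ← Functor.map_comp]
    exact @Hpull_sqMap_map _ _ _ _ (cZ.π.app (op j)) (m j) l (cY.π.app (op j)) (hl j) (pull_preservesFiniteLimits _)
      (pull_preservesFiniteLimits _) ‹_› (pull_preservesFiniteLimits _) _ _ ((ψ j).hom ≫ C.ι.app j) q y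
  have keyTr : ∀ {j k : ι} (h : j ≤ k) (y : EtCoh.H (Ys.obj (op j)) (A.obj j) q),
      B.Tr h q (EtCore.Hpull (m j) (A.obj j) q y) = EtCore.Hpull (m k) (A.obj k) q (A.Tr h q y) := fun {j k} h y => by
    show hmap (sqMap (tr Zs h) (m j) (m k) (tr Ys h) (hm h) (A.obj j) ≫ (EtCoh.pull (m k)).map (A.φ h)) q
        (EtCore.Hpull (tr Zs h) _ q (EtCore.Hpull (m j) (A.obj j) q y)) =
      EtCore.Hpull (m k) (A.obj k) q (hmap (A.φ h) q (EtCore.Hpull (tr Ys h) (A.obj j) q y))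
    rw [← hmap_comp, Hpull_sqMap, EtBC.Hpull_hmap]
  refine ⟨(injective_iff_map_eq_zero _).2 fun y hy => ?_, fun z => ?_⟩
  · obtain ⟨j, y', rfl⟩ := HY.1 y
    rw [← key] at hy
    obtain ⟨k, h, hk⟩ := HZ.2 j _ hy
    have h1 : A.Tr h q y' = 0 := (hst k).1 (((keyTr h y').symm.trans hk).trans (map_zero _).symm)
    rw [← hThen_comp _ _ _ (cone_w cY h) _ _ _ (hψ.compatible C h) q y', h1, map_zero]
  · obtain ⟨j, z', rfl⟩ := HZ.1 z
    obtain ⟨y, rfl⟩ := (hst j).2 z'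
    exact ⟨_, (key j y).symm⟩

end system

end Groth.Agent.SmAcyc.Limit
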