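import Groth.Agent.SmAcyc.Limit.Lift
import Groth.Agent.AcycCover.StrictMap
import Groth.Agent.MorLib.LimSpace
import Groth.Agent.S2132
import Mathlib.Algebra.Category.Ring.FilteredColimits

/-!
# Strict localizations of a limit scheme
-/

set_option autoImplicit false
set_option linter.style.haveILetI false
set_option backward.isDefEq.respectTransparency.types false

universe u

open CategoryTheory CategoryTheory.Limits AlgebraicGeometry IsLocalRing Opposite

namespace Groth.Agent.SmAcyc.Limit

variable {ι : Type u} [Preorder ι] [IsDirected ι (· ≤ ·)] [Nonempty ι] {Xs : ιᵒᵖ ⥤ Scheme.{u}} (c : Cone Xs)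
  {x : c.pt} (A : SLoc c.pt x)

/-- the strict localizations at the stages -/
noncomputable def sl (x : c.pt) (i : ι) : SLoc (Xs.obj (op i)) (c.π.app (op i) x) := Classical.choice (nonempty_sLoc _)

instance henselian_sl (x : c.pt) (i : ι) : HenselianLocalRing (sl c x i).R :=
  (sl c x i).str.henselian

theorem exists_g (i : ι) : ∃ g : (sl c x i).R →+* A.R, IsLocalHom g ∧
    Spec.map (CommRingCat.ofHom g) ≫ (sl c x i).spec = A.spec ≫ c.π.app (op i) := by
  obtain ⟨ψ, hl, h⟩ := AcycCover.exists_strictMap (c.π.app (op i)) x (sl c x i).R A.R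
  refine ⟨ψ, hl, ?_⟩
  rw [specMap_spec, h, UnitStalk.specMap_fromSpecStalk]
  exact (Category.assoc _ _ _).symm

/-- the maps to the strict localization of the limit -/
noncomputable def gi (i : ι) : (sl c x i).R →+* A.R := Classical.choose (exists_g c A i)

instance isLocalHom_gi (i : ι) : IsLocalHom (gi c A i) := (Classical.choose_spec (exists_g c A i)).1

theorem gi_spec (i : ι) : Spec.map (CommRingCat.ofHom (gi c A i)) ≫ (sl c x i).spec = A.spec ≫ c.π.app (op i) :=
  (Classical.choose_spec (exists_g c A i)).2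

/-- transition of the schemes -/
noncomputable abbrev trX {i j : ι} (h : i ≤ j) : Xs.obj (op j) ⟶ Xs.obj (op i) := Xs.map (homOfLE h).op

theorem existsUnique_tm {i j : ι} (h : i ≤ j) : ∃! ψ : (sl c x i).R →+* (sl c x j).R, IsLocalHom ψ ∧
    Spec.map (CommRingCat.ofHom ψ) ≫ (sl c x i).spec = (sl c x j).spec ≫ trX h ∧ (gi c A j).comp ψ = gi c A i := by
  haveI := A.str.henselian
  refine existsUnique_lift (trX h) ?_ (sl c x i) (sl c x j) (gi c A j) (gi c A i) ?_
  · exact (Scheme.Hom.comp_apply _ _ _).symm.trans (congrArg (fun k : c.pt ⟶ Xs.obj (op i) => k x) (c.w _))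
  · exact (gi_spec c A i).trans (((congrArg (A.spec ≫ ·) (c.w (homOfLE h).op).symm).trans
      (Category.assoc _ _ _).symm).trans ((congrArg (· ≫ trX h) (gi_spec c A j).symm).trans (Category.assoc _ _ _)))

/-- the transition maps -/
noncomputable def tm {i j : ι} (h : i ≤ j) : (sl c x i).R →+* (sl c x j).R :=
  Classical.choose (existsUnique_tm c A h)

theorem tm_prop {i j : ι} (h : i ≤ j) : IsLocalHom (tm c A h) ∧
    Spec.map (CommRingCat.ofHom (tm c A h)) ≫ (sl c x i).spec = (sl c x j).spec ≫ trX h ∧
      (gi c A j).comp (tm c A h) = gi c A i :=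
  (Classical.choose_spec (existsUnique_tm c A h)).1

theorem tm_unique {i j : ι} (h : i ≤ j) (ψ : (sl c x i).R →+* (sl c x j).R) [IsLocalHom ψ]
    (h1 : Spec.map (CommRingCat.ofHom ψ) ≫ (sl c x i).spec = (sl c x j).spec ≫ trX h)
    (h2 : (gi c A j).comp ψ = gi c A i) : ψ = tm c A h :=
  (Classical.choose_spec (existsUnique_tm c A h)).2 ψ ⟨‹_›, h1, h2⟩

instance isLocalHom_tm {i j : ι} (h : i ≤ j) : IsLocalHom (tm c A h) := (tm_prop c A h).1

theorem tm_id (i : ι) : tm c A (le_refl i) = RingHom.id _ := by
  haveI : IsLocalHom (RingHom.id (sl c x i).R) := ⟨fun _ ha => ha⟩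
  refine (tm_unique c A (le_refl i) _ ?_ (RingHom.comp_id _)).symm
  rw [show trX (Xs := Xs) (le_refl i) = 𝟙 _ from Xs.map_id _, Category.comp_id, CommRingCat.ofHom_id, Spec.map_id,
    Category.id_comp]

theorem tm_comp {i j k : ι} (h : i ≤ j) (h' : j ≤ k) : (tm c A h').comp (tm c A h) = tm c A (h.trans h') := by
  haveI : IsLocalHom ((tm c A h').comp (tm c A h)) := RingHom.isLocalHom_comp _ _
  refine tm_unique c A _ _ ?_ ?_
  · rw [CommRingCat.ofHom_comp, Spec.map_comp, Category.assoc, (tm_prop c A h).2.1, ← Category.assoc,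
      (tm_prop c A h').2.1, Category.assoc]
    exact congrArg ((sl c x k).spec ≫ ·) (Xs.map_comp _ _).symm
  · rw [← RingHom.comp_assoc, (tm_prop c A h').2.2, (tm_prop c A h).2.2]

/-- the system of strict localizations -/
noncomputable def Rs : ι ⥤ CommRingCat.{u} where
  obj i := CommRingCat.of (sl c x i).R
  map h := CommRingCat.ofHom (tm c A (leOfHom h))
  map_id i := by rw [tm_id c A i]; rfl
  map_comp h h' := by rw [← CommRingCat.ofHom_comp, tm_comp c A (leOfHom h) (leOfHom h')]

/-- the maps to the limit form a cocone -/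
noncomputable def coc : Cocone (Rs c A) where
  pt := CommRingCat.of A.R
  ι :=
    { app := fun i => CommRingCat.ofHom (gi c A i)
      naturality := fun i j h => by
        refine CommRingCat.hom_ext ?_
        exact (tm_prop c A (leOfHom h)).2.2 }

variable (hc : IsLimit c) (haff : ∀ ⦃a b : ιᵒᵖ⦄ (h : a ⟶ b), IsAffineHom (Xs.map h))

include hc haff in
set_option maxHeartbeats 1000000 in
/-- the strict localization of the limit is the colimit of the strict localizations -/
theorem nonempty_isColimit_coc : Nonempty (IsColimit (coc c A)) := by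
  classical
  haveI : IsFiltered ι := isFiltered_of_directed_le_nonempty ι
  haveI := A.str.henselian
  haveI := A.str.isSepClosure.sep_closed
  let F := Rs c A
  let cl : Cocone F := colimit.cocone F
  have hcl : IsColimit cl := colimit.isColimit F
  haveI hC : HenselianLocalRing cl.pt :=
    S2132.result F (fun i => henselian_sl c x i) (fun i j a => isLocalHom_tm c A (leOfHom a)) cl hcl
  let G : cl.pt ⟶ CommRingCat.of A.R := hcl.desc (coc c A)
  let ci : ∀ i, (sl c x i).R →+* cl.pt := fun i => (cl.ι.app i).hom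
  have hG' : ∀ i, G.hom.comp (ci i) = gi c A i := fun i => congrArg CommRingCat.Hom.hom (hcl.fac (coc c A) i)
  have hG : ∀ i (a : (sl c x i).R), G.hom (ci i a) = gi c A i a := fun i a => RingHom.congr_fun (hG' i) a
  have hci : ∀ {i j : ι} (h : i ≤ j) (a : (sl c x i).R), ci j (tm c A h a) = ci i a := fun h a =>
    congrArg (fun φ => φ.hom a) (cl.w (homOfLE h))
  have hrep : ∀ z : cl.pt, ∃ i, ∃ a : (sl c x i).R, ci i a = z := fun z =>
    Types.jointly_surjective_of_isColimit (isColimitOfPreserves (forget CommRingCat.{u}) hcl) z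
  haveI hιl : ∀ i, IsLocalHom (ci i) := fun i => ⟨fun a ha =>
    (isLocalHom_gi c A i).map_nonunit a (hG i a ▸ ha.map G.hom)⟩
  haveI hGl : IsLocalHom G.hom := ⟨fun z hz => by
    obtain ⟨i, a, rfl⟩ := hrep z
    exact ((isLocalHom_gi c A i).map_nonunit a (hG i a ▸ hz)).map _⟩
  -- the point of the colimit
  let Q : Cone Xs :=
    { pt := Spec cl.pt
      π :=
        { app := fun a => Spec.map (cl.ι.app a.unop) ≫ (sl c x a.unop).spec
          naturality := fun a b m => by
            have h1 := (tm_prop c A (leOfHom m.unop)).2.1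
            have h2 := cl.w m.unop
            show 𝟙 _ ≫ Spec.map (cl.ι.app b.unop) ≫ (sl c x b.unop).spec =
              (Spec.map (cl.ι.app a.unop) ≫ (sl c x a.unop).spec) ≫ Xs.map m
            rw [Category.id_comp, Category.assoc, ← h2, Spec.map_comp, Category.assoc]
            exact congrArg (Spec.map (cl.ι.app a.unop) ≫ ·) h1 } }
  let q : Spec cl.pt ⟶ c.pt := hc.lift Q
  have hq : ∀ i, q ≫ c.π.app (op i) = Spec.map (cl.ι.app i) ≫ (sl c x i).spec := fun i => hc.fac Q (op i)
  haveI : ∀ {a b : ιᵒᵖ} (f : a ⟶ b), IsAffineHom (Xs.map f) := fun f => haff f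
  have hqx : q (closedPoint cl.pt) = x := by
    refine MorLib.LimSpace.point_ext hc fun j => ?_
    refine (Scheme.Hom.comp_apply _ _ _).symm.trans ((congrArg (fun t : Spec cl.pt ⟶ Xs.obj j => t (closedPoint cl.pt))
      (hq j.unop)).trans ?_)
    exact (UnitStalk.apply_closedPoint (ci j.unop) (sl c x j.unop).spec).trans (UnitStalk.specMap_closed _ _)
  obtain ⟨α, hα, hαe⟩ := UnitStalk.exists_stalk_hom (R := cl.pt) q hqx
  have hGα : G.hom.comp α = algebraMap (c.pt.presheaf.stalk x) A.R := by
    refine UnitStalk.hom_eq_of_fromSpecStalk x _ _ ?_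
    rw [CommRingCat.ofHom_comp, Spec.map_comp, Category.assoc, hαe]
    refine hc.hom_ext fun j => ?_
    refine (Category.assoc _ _ _).trans ((congrArg (Spec.map (CommRingCat.ofHom G.hom) ≫ ·) (hq j.unop)).trans ?_)
    refine Eq.trans ?_ (gi_spec c A j.unop)
    refine (Category.assoc _ _ _).symm.trans (congrArg (· ≫ (sl c x j.unop).spec) ?_)
    rw [← hG' j.unop, CommRingCat.ofHom_comp, Spec.map_comp]
    rfl
  -- residue fields
  haveI hsepC : IsSepClosed (ResidueField cl.pt) := by
    have hp : ∀ p : Polynomial (ResidueField cl.pt), ∃ i, p ∈ Polynomial.lifts (ResidueField.map (ci i)) := by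
      have hmono : ∀ {i j : ι}, i ≤ j → ∀ p : Polynomial (ResidueField cl.pt),
          p ∈ Polynomial.lifts (ResidueField.map (ci i)) →
          p ∈ Polynomial.lifts (ResidueField.map (ci j)) := by
        intro i j h p hp
        obtain ⟨p', rfl⟩ := (Polynomial.mem_lifts _).1 hp
        refine (Polynomial.mem_lifts _).2 ⟨p'.map (ResidueField.map (tm c A h)), ?_⟩
        rw [Polynomial.map_map]
        congr 1
        refine RingHom.ext fun z => ?_
        obtain ⟨r, rfl⟩ := residue_surjective z
        exact congrArg (residue cl.pt) (hci h r)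
      intro p
      induction p using Polynomial.induction_on' with
      | add p q hp hq =>
        obtain ⟨i, hi⟩ := hp
        obtain ⟨j, hj⟩ := hq
        obtain ⟨k, hik, hjk⟩ := exists_ge_ge i j
        exact ⟨k, add_mem (hmono hik p hi) (hmono hjk q hj)⟩
      | monomial n z =>
        obtain ⟨r, rfl⟩ := residue_surjective z
        obtain ⟨i, a, rfl⟩ := hrep r
        exact ⟨i, (Polynomial.mem_lifts _).2 ⟨Polynomial.monomial n (residue _ a), Polynomial.map_monomial _⟩⟩
    refine IsSepClosed.of_exists_root _ fun f _ hi hs => ?_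
    obtain ⟨i, hfi⟩ := hp f
    obtain ⟨f', rfl⟩ := (Polynomial.mem_lifts _).1 hfi
    haveI := (sl c x i).str.isSepClosure.sep_closed
    obtain ⟨z, hz⟩ := IsSepClosed.exists_root f'
      (fun h0 => hi.degree_pos.ne' (by rw [Polynomial.degree_map]; exact h0))
      ((Polynomial.separable_map _).1 hs)
    exact ⟨ResidueField.map (ci i) z, by
      rw [Polynomial.eval_map, Polynomial.eval₂_at_apply, hz.eq_zero, map_zero]⟩
  haveI := A.str.isSepClosure.separable
  letI : Algebra (ResidueField (c.pt.presheaf.stalk x)) (ResidueField cl.pt) := (ResidueField.map α).toAlgebra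
  let τ : ResidueField cl.pt →ₐ[ResidueField (c.pt.presheaf.stalk x)] ResidueField A.R :=
    { ResidueField.map G.hom with
      commutes' := fun w => by
        obtain ⟨r, rfl⟩ := residue_surjective w
        exact congrArg (residue A.R) (RingHom.congr_fun hGα r) }
  have hτ : Function.Surjective τ := fun z =>
    UnitStalk.mem_range_of_isSepClosed τ z (Algebra.IsSeparable.isSeparable _ z)
  let e := RingEquiv.ofBijective τ.toRingHom ⟨τ.toRingHom.injective, hτ⟩
  obtain ⟨H, ⟨hH, hHr⟩, -⟩ := A.str.universal cl.pt α e.symm.toRingHom (RingHom.ext fun w => e.symm_apply_eq.2 (by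
    exact (τ.commutes w).symm))
  haveI hHl : IsLocalHom H := ⟨fun a ha => by
    by_contra h
    have h0 : residue cl.pt (H a) = 0 := by rw [hHr, (residue_eq_zero_iff a).2 h, map_zero]
    exact ((residue_eq_zero_iff _).1 h0) ha⟩
  have hresH : ∀ a, residue A.R (G.hom (H a)) = residue A.R a := fun a =>
    (congrArg τ (hHr a)).trans (e.apply_symm_apply _)
  have hGH : G.hom.comp H = RingHom.id A.R := by
    obtain ⟨K, -, huK⟩ := A.str.universal A.R (algebraMap (c.pt.presheaf.stalk x) A.R) (RingHom.id _)
      (RingHom.ext fun w => by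
        obtain ⟨r, rfl⟩ := residue_surjective w
        rfl)
    exact (huK _ ⟨by rw [RingHom.comp_assoc, hH, hGα], fun a => hresH a⟩).trans
      (huK _ ⟨RingHom.id_comp _, fun _ => rfl⟩).symm
  have hHq : Spec.map (CommRingCat.ofHom H) ≫ A.spec = q := by
    rw [specMap_spec, hH]
    exact hαe
  have hHι : ∀ i, H.comp (gi c A i) = (ci i) := by
    intro i
    haveI : IsLocalHom (H.comp (gi c A i)) := RingHom.isLocalHom_comp _ _
    have halg : (H.comp (gi c A i)).comp (algebraMap ((Xs.obj (op i)).presheaf.stalk (c.π.app (op i) x)) (sl c x i).R) = (ci i).comp (algebraMap ((Xs.obj (op i)).presheaf.stalk (c.π.app (op i) x)) (sl c x i).R) := by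
      refine comp_algebraMap_eq _ _ _ ?_
      rw [CommRingCat.ofHom_comp, Spec.map_comp, Category.assoc, gi_spec]
      exact (Category.assoc _ _ _).symm.trans ((congrArg (· ≫ c.π.app (op i)) hHq).trans (hq i))
    haveI : IsLocalHom ((ci i).comp (algebraMap ((Xs.obj (op i)).presheaf.stalk (c.π.app (op i) x))
        (sl c x i).R)) := RingHom.isLocalHom_comp _ _
    obtain ⟨K, -, huK⟩ := (sl c x i).str.universal cl.pt ((ci i).comp (algebraMap ((Xs.obj (op i)).presheaf.stalk (c.π.app (op i) x)) (sl c x i).R))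
      (ResidueField.map (ci i)) (RingHom.ext fun w => by
        obtain ⟨r, rfl⟩ := residue_surjective w
        rfl)
    refine (huK _ ⟨halg, fun a => τ.toRingHom.injective ?_⟩).trans (huK _ ⟨rfl, fun a => rfl⟩).symm
    exact (hresH (gi c A i a)).trans (congrArg (residue A.R) (hG i a)).symm
  have hHG : G ≫ CommRingCat.ofHom H = 𝟙 cl.pt := hcl.hom_ext fun i => by
    refine CommRingCat.hom_ext (RingHom.ext fun a => ?_)
    exact (congrArg H (hG i a)).trans (RingHom.congr_fun (hHι i) a)
  exact ⟨hcl.ofIsoColimit (Cocone.ext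
    ⟨G, CommRingCat.ofHom H, hHG, CommRingCat.hom_ext hGH⟩ fun i => hcl.fac (coc c A) i)⟩

end Groth.Agent.SmAcyc.Limit
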